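import Cfsg.Agent.H876.Six.SlFive
import Cfsg.Agent.H148.Oct.SepG2
import Cfsg.Agent.H161.G2Elems
import Cfsg.Agent.S1055

/-!
# No cover of `G₂(q)`, `q = 5^m`, with the element orders of BLOCK 6 (helper876)
-/

set_option autoImplicit false

namespace Cfsg.Agent.H876.Six

open Cfsg.Lie
open Cfsg.Agent.H376.Six Cfsg.Agent.H161.Oct

/-- faithful action of a simple quotient on a noncentral normal subgroup -/
theorem faithful {H : Type*} [Group H] (V : Subgroup H) [V.Normal] {t : ℕ} (hV : Cov t H V)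
    (hs : IsSimpleGroup (H ⧸ V)) {g : H} (hg : g ∉ V) : ∃ v ∈ V, g * v ≠ v * g := by
  by_contra hno
  push Not at hno
  have hn : (Subgroup.centralizer (V : Set H)).Normal := by
    constructor
    intro x hx y
    rw [Subgroup.mem_centralizer_iff] at hx ⊢
    intro v hv
    have h1 : y⁻¹ * v * y ∈ V := by
      have := ‹V.Normal›.conj_mem v hv y⁻¹
      rwa [inv_inv] at this
    have h2 := hx _ h1
    calc v * (y * x * y⁻¹) = y * ((y⁻¹ * v * y) * x) * y⁻¹ := by group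
      _ = y * (x * (y⁻¹ * v * y)) * y⁻¹ := by rw [h2]
      _ = _ := by group
  have hm : ((Subgroup.centralizer (V : Set H)).map (QuotientGroup.mk' V)).Normal :=
    Subgroup.Normal.map hn _ (QuotientGroup.mk'_surjective V)
  rcases hm.eq_bot_or_eq_top with h | h
  · have h1 : g ∈ Subgroup.centralizer (V : Set H) := by
      rw [Subgroup.mem_centralizer_iff]
      exact fun v hv => (hno v hv).symm
    have h2 : QuotientGroup.mk' V g ∈ (Subgroup.centralizer (V : Set H)).map (QuotientGroup.mk' V) :=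
      Subgroup.mem_map_of_mem _ h1
    rw [h, Subgroup.mem_bot] at h2
    exact hg ((QuotientGroup.eq_one_iff g).1 h2)
  · obtain ⟨v, hv, x, hx⟩ := hV.nc
    have h2 : QuotientGroup.mk' V x ∈ (Subgroup.centralizer (V : Set H)).map (QuotientGroup.mk' V) := by
      rw [h]; exact Subgroup.mem_top _
    obtain ⟨c, hc, hcx⟩ := h2
    have h3 : c⁻¹ * x ∈ V := QuotientGroup.eq.1 hcx
    have h4 : x = c * (c⁻¹ * x) := by group
    apply hx
    have h5 : v * c = c * v := (Subgroup.mem_centralizer_iff.1 hc) v hv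
    have h6 := hV.comm v hv _ h3
    calc x * v = c * ((c⁻¹ * x) * v) := by group
      _ = c * (v * (c⁻¹ * x)) := by rw [h6]
      _ = (c * v) * (c⁻¹ * x) := by group
      _ = v * c * (c⁻¹ * x) := by rw [h5]
      _ = v * x := by group

/-- the arithmetic -/
theorem not_UB5 {q m t : ℕ} (hm : 1 ≤ m) (hq : q = 5 ^ m) (htp : t.Prime) (ht : t ∣ (q ^ 2 + 1) / 2) :
    t ≠ 2 ∧ t ≠ 5 ∧ ¬ UB5 q (20 * t) := by
  obtain ⟨j, hj⟩ : ∃ j, q = 20 * j + 5 := by
    subst hq
    clear ht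
    induction m, hm using Nat.le_induction with
    | base => exact ⟨0, rfl⟩
    | succ n hn ih =>
      obtain ⟨j, hj⟩ := ih
      refine ⟨5 * j + 1, ?_⟩
      rw [pow_succ, hj]; ring
  clear hq
  subst hj
  have e2 : ((20 * j + 5) ^ 2 + 1) / 2 = 2 * (100 * j ^ 2 + 50 * j + 6) + 1 := by
    have : (20 * j + 5) ^ 2 + 1 = 2 * (2 * (100 * j ^ 2 + 50 * j + 6) + 1) := by ring
    rw [this]; omega
  rw [e2] at ht
  have ht2 : t ≠ 2 := by
    rintro rfl
    omega
  have ht5 : t ≠ 5 := by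
    rintro rfl
    have h1 : 2 * (100 * j ^ 2 + 50 * j + 6) + 1 = 5 * (40 * j ^ 2 + 20 * j + 2) + 3 := by ring
    rw [h1] at ht
    omega
  refine ⟨ht2, ht5, ?_⟩
  have e3 : (20 * j + 5) ^ 3 = 2 * (4000 * j ^ 3 + 3000 * j ^ 2 + 750 * j + 62) + 1 := by ring
  have e4 : (20 * j + 5) ^ 4 = 4 * (40000 * j ^ 4 + 40000 * j ^ 3 + 15000 * j ^ 2 + 2500 * j + 156) + 1 := by ring
  have h5 : ∀ n, 20 * t ∣ n → 5 ∣ n := fun n h => (Dvd.intro (4 * t) (by ring)).trans h
  rintro (h | h | h | h | h | h)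
  · rw [e3] at h
    have h1 : (2 * (4000 * j ^ 3 + 3000 * j ^ 2 + 750 * j + 62) + 1 - 1) / 2 =
      5 * (800 * j ^ 3 + 600 * j ^ 2 + 150 * j + 12) + 2 := by omega
    rw [h1] at h
    have := h5 _ h
    omega
  · rw [e3] at h
    have h1 : (2 * (4000 * j ^ 3 + 3000 * j ^ 2 + 750 * j + 62) + 1 + 1) / 2 =
      5 * (800 * j ^ 3 + 600 * j ^ 2 + 150 * j + 12) + 3 := by omega
    rw [h1] at h
    have := h5 _ h
    omega
  · rw [e4] at h
    have h1 : (4 * (40000 * j ^ 4 + 40000 * j ^ 3 + 15000 * j ^ 2 + 2500 * j + 156) + 1 - 1) / 4 =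
      5 * (8000 * j ^ 4 + 8000 * j ^ 3 + 3000 * j ^ 2 + 500 * j + 31) + 1 := by omega
    rw [h1] at h
    have := h5 _ h
    omega
  · have h1 : 4 * t ∣ (20 * j + 5) ^ 2 + 1 := by
      have : 5 * (4 * t) ∣ 5 * ((20 * j + 5) ^ 2 + 1) := by
        have e : 5 * (4 * t) = 20 * t := by ring
        rw [e]; exact h
      exact Nat.dvd_of_mul_dvd_mul_left (by norm_num) this
    have h2 : 4 ∣ (20 * j + 5) ^ 2 + 1 := (Dvd.intro t rfl).trans h1
    have h3 : (20 * j + 5) ^ 2 + 1 = 4 * (100 * j ^ 2 + 50 * j + 6) + 2 := by ring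
    rw [h3] at h2
    omega
  · have h1 : 4 * t ∣ (20 * j + 5) ^ 2 - 1 := by
      have : 5 * (4 * t) ∣ 5 * ((20 * j + 5) ^ 2 - 1) := by
        have e : 5 * (4 * t) = 20 * t := by ring
        rw [e]; exact h
      exact Nat.dvd_of_mul_dvd_mul_left (by norm_num) this
    have h2 : t ∣ (20 * j + 5) ^ 2 - 1 := (Dvd.intro_left 4 rfl).trans h1
    have h3 : (20 * j + 5) ^ 2 - 1 = 4 * (100 * j ^ 2 + 50 * j + 6) := by
      have : (20 * j + 5) ^ 2 = 4 * (100 * j ^ 2 + 50 * j + 6) + 1 := by ring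
      omega
    rw [h3] at h2
    have h4 : t ∣ 2 * (2 * (100 * j ^ 2 + 50 * j + 6) + 1) - 4 * (100 * j ^ 2 + 50 * j + 6) :=
      Nat.dvd_sub (Dvd.dvd.mul_left ht 2) h2
    have h5 : 2 * (2 * (100 * j ^ 2 + 50 * j + 6) + 1) - 4 * (100 * j ^ 2 + 50 * j + 6) = 2 := by omega
    rw [h5] at h4
    exact ht2 ((Nat.prime_dvd_prime_iff_eq htp Nat.prime_two).1 h4)
  · have h1 : 4 ∣ 25 := (Dvd.intro (5 * t) (by ring)).trans h
    omega

/-- **`SL₃(5)` in `G₂(5^m)`** -/
theorem exists_s5 {F : Type*} [Field F] [Finite F] [CharP F 5] :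
    ∃ σ : S5 →* ↥(chevG2.group F), Function.Injective σ := by
  obtain ⟨e⟩ := Cfsg.Agent.H148.Oct.nonempty_equiv F
  have hinj : Function.Injective (ZMod.castHom (dvd_refl 5) F) := by
    have : Fact (Nat.Prime 5) := ⟨Nat.prime_five⟩
    exact (ZMod.castHom (dvd_refl 5) F).injective
  refine ⟨(e.toMonoidHom.comp ((slM F).codRestrict (AutO F) slM_mem)).comp
    (Matrix.SpecialLinearGroup.map (ZMod.castHom (dvd_refl 5) F)), ?_⟩
  refine (e.injective.comp ?_).comp ?_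
  · intro a b hab
    exact slM_inj (congrArg Subtype.val hab)
  · intro a b hab
    apply Subtype.ext
    ext i j
    apply hinj
    have h1 : ((Matrix.SpecialLinearGroup.map (ZMod.castHom (dvd_refl 5) F) a :
        Matrix.SpecialLinearGroup (Fin 3) F) : Matrix (Fin 3) (Fin 3) F) i j =
      ((Matrix.SpecialLinearGroup.map (ZMod.castHom (dvd_refl 5) F) b :
        Matrix.SpecialLinearGroup (Fin 3) F) : Matrix (Fin 3) (Fin 3) F) i j := by rw [hab]
    exact h1

/-- **no cover of `G₂(5^m)`** -/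
theorem nc_g2 {F : Type*} [Field F] [Fintype F] {m : ℕ} (hm : 1 ≤ m) (hF : Fintype.card F = 5 ^ m)
    {H : Type*} [Group H] [Finite H] (V : Subgroup H) [V.Normal] {t : ℕ} (ht : t ∣ (Fintype.card F ^ 2 + 1) / 2)
    (hV : Cov t H V) (e : H ⧸ V ≃* ↥(Cfsg.Lie.chevG2.group F)) (hub : ∀ x : H, UB5 (Fintype.card F) (orderOf x)) :
    False := by
  obtain ⟨ht2, ht5, hno⟩ := not_UB5 hm hF hV.prime ht
  have hc : CharP F 5 := by
    obtain ⟨p, hp⟩ := CharP.exists F
    have h1 := FiniteField.card F p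
    obtain ⟨n, hpp, hn⟩ := h1
    rw [hF] at hn
    have h2 : p ∣ 5 ^ m := by rw [hn]; exact dvd_pow_self p n.ne_zero
    have h3 : p = 5 := (Nat.prime_dvd_prime_iff_eq hpp Nat.prime_five).1 (hpp.dvd_of_dvd_pow h2)
    rw [← h3]; exact hp
  obtain ⟨σ, hσ⟩ := exists_s5 (F := F)
  have hcard : 3 ≤ Fintype.card F := by
    rw [hF]
    calc 3 ≤ 5 ^ 1 := by norm_num
      _ ≤ 5 ^ m := Nat.pow_le_pow_right (by norm_num) hm
  have hsim : IsSimpleGroup (H ⧸ V) := by
    have h1 := (S1055.result (Cfsg.Agent.H148.Oct.exists_of_card hcard)).1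
    have : Nontrivial (H ⧸ V) := e.toEquiv.nontrivial
    exact IsSimpleGroup.isSimpleGroup_of_surjective e.symm.toMonoidHom e.symm.surjective
  let σ' : S5 →* H ⧸ V := e.symm.toMonoidHom.comp σ
  have hσ' : Function.Injective σ' := e.symm.injective.comp hσ
  obtain ⟨g, hg⟩ := QuotientGroup.mk_surjective (σ' (uu 0 1))
  have hgV : g ∉ V := by
    intro h
    rw [(QuotientGroup.eq_one_iff g).2 h] at hg
    have h1 : uu 0 1 = 1 := hσ' (by rw [← hg, map_one])
    exact absurd (uu_inj 1 h1) (by decide)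
  obtain ⟨y, hy⟩ := exists_twenty V hV ht2 ht5 σ' hσ' ⟨g, hg, faithful V hV hsim hgV⟩
  have := hub y
  rw [hy] at this
  exact hno this

end Cfsg.Agent.H876.Six
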