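import Cfsg.Agent.H876.Six.NcG2Three

/-!
# No cover of `G₂(q)`, `q = 2^m ≥ 4`, with the element orders of BLOCK 6 (helper876)

`7 : 6` in `G₂(2)`: an element of order `6 t`.
-/

set_option autoImplicit false

namespace Cfsg.Agent.H876.Six

open Cfsg.Lie Matrix
open Cfsg.Agent.H376.Six Cfsg.Agent.H161.Oct Cfsg.Agent.H371.Frob

section frob

/-- `7 : 6` in `H / V` -/
theorem exists_six {H : Type*} [Group H] [Finite H] (V : Subgroup H) [V.Normal] {t : ℕ} (hV : Cov t H V) (h7 : t ≠ 7)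
    (s c : H ⧸ V) (hs : orderOf s = 7) (hcs : c * s * c⁻¹ = s ^ 3) (hc : orderOf c = 6)
    (hf : ∃ g : H, (g : H ⧸ V) = s ∧ ∃ v ∈ V, g * v ≠ v * g) : ∃ y : H, orderOf y = 6 * t := by
  have hVc : IsMulCommutative V := ⟨⟨fun a b => Subtype.ext (hV.comm a a.2 b b.2)⟩⟩
  rw [← hc]
  have hpow : ∀ k : ℕ, c * s ^ k * c⁻¹ = s ^ (3 * k) := by
    intro k
    have h1 := (conj_pow (i := k) (a := c) (b := s)).symm
    rw [h1, hcs, ← pow_mul]
  have hpow2 : ∀ i k : ℕ, c ^ i * s ^ k = s ^ (3 ^ i * k) * c ^ i := by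
    intro i
    induction i with
    | zero => intro k; simp
    | succ i ih =>
      intro k
      have h1 := hpow k
      have h2 : c * s ^ k = s ^ (3 * k) * c := by rw [← h1]; group
      rw [pow_succ, mul_assoc, h2, ← mul_assoc, ih, mul_assoc]
      congr 2
      ring
  refine exists_orderOf V hVc hV.prime hV.pow (Subgroup.zpowers s) (c := c) ?_ ?_ ?_ ?_
  · intro a ha
    obtain ⟨k, rfl⟩ := (mem_powers_iff_mem_zpowers.2 ha : a ∈ Submonoid.powers s)
    change c * s ^ k * c⁻¹ ∈ _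
    rw [hpow]
    exact Subgroup.pow_mem _ (Subgroup.mem_zpowers s) _
  · intro i hi hi6 a ha hca
    rw [hc] at hi6
    obtain ⟨k, rfl⟩ := (mem_powers_iff_mem_zpowers.2 ha : a ∈ Submonoid.powers s)
    change c ^ i * s ^ k = s ^ k * c ^ i at hca
    rw [hpow2] at hca
    have h1 : s ^ (3 ^ i * k) = s ^ k := mul_right_cancel hca
    rw [pow_inj_mod, hs] at h1
    change s ^ k = 1
    rw [← orderOf_dvd_iff_pow_eq_one, hs]
    have h2 : 3 ^ i * k % 7 = k % 7 := h1
    have h3 : 3 ^ i % 7 * (k % 7) % 7 = k % 7 := by rw [← Nat.mul_mod]; exact h2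
    apply Nat.dvd_of_mod_eq_zero
    have h4 : k % 7 < 7 := Nat.mod_lt _ (by norm_num)
    interval_cases i <;> revert h3 <;> generalize k % 7 = r at h4 ⊢ <;> interval_cases r <;> decide
  · rw [Nat.card_zpowers, hs]
    exact (Nat.coprime_primes (by norm_num) hV.prime).2 (Ne.symm h7)
  · obtain ⟨g, hg, hgv⟩ := hf
    exact ⟨g, by rw [hg]; exact Subgroup.mem_zpowers s, hgv⟩

end frob

section model

variable {F : Type*} [Field F]

/-- the inverse transpose -/
def cof (P : SpecialLinearGroup (Fin 3) F) : SpecialLinearGroup (Fin 3) F :=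
  ⟨(P⁻¹ : SpecialLinearGroup (Fin 3) F).1.transpose, by
    rw [Matrix.det_transpose]; exact (P⁻¹).2⟩

theorem cof_apply (P : SpecialLinearGroup (Fin 3) F) (i j : Fin 3) : (cof P).1 i j = (P.1.adjugate) j i := by
  change (P⁻¹ : SpecialLinearGroup (Fin 3) F).1 j i = _
  rw [Matrix.SpecialLinearGroup.coe_inv]

theorem swp_sl (P : SpecialLinearGroup (Fin 3) F) : swp F * slM F P * swp F = slM F (cof P) := by
  apply LinearEquiv.ext
  intro x
  change swpF (slF P.1 (swpF x)) = slF (cof P).1 x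
  have hP := P.2
  rw [det3] at hP
  apply ext8 <;>
    simp only [swpF0, swpF1, swpF2, swpF3, swpF4, swpF5, swpF6, swpF7, slF0, slF1, slF2, slF3, slF4, slF5, slF6, slF7,
      cof_apply, Matrix.adjugate_fin_three, Matrix.of_apply, Matrix.cons_val]
  · ring
  · ring
  · ring
  · linear_combination (P.1 0 0 * x 4 + P.1 0 1 * x 5 + P.1 0 2 * x 6) * (-hP)
  · linear_combination (P.1 1 0 * x 4 + P.1 1 1 * x 5 + P.1 1 2 * x 6) * (-hP)
  · linear_combination (P.1 2 0 * x 4 + P.1 2 1 * x 5 + P.1 2 2 * x 6) * (-hP)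

theorem swp_sq : swp F * swp F = 1 := by
  apply LinearEquiv.ext
  intro x
  change swpF (swpF x) = x
  apply ext8 <;> simp only [swpF0, swpF1, swpF2, swpF3, swpF4, swpF5, swpF6, swpF7] <;> ring

end model

section two

/-- `SL₃(2)` -/
abbrev S2 : Type := Matrix.SpecialLinearGroup (Fin 3) (ZMod 2)

def sm : S2 := ⟨!![0, 0, 1; 1, 0, 1; 0, 1, 0], by decide⟩
def fm : S2 := ⟨!![1, 0, 0; 0, 0, 1; 0, 1, 1], by decide⟩
def wm : S2 := ⟨!![1, 0, 0; 0, 0, 1; 0, 1, 0], by decide⟩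

theorem sm_pow : sm ^ 7 = 1 := by decide +kernel
theorem sm_ne : sm ≠ 1 := by decide +kernel
theorem fm_pow : fm ^ 3 = 1 := by decide +kernel
theorem fm_sm : fm * sm * fm⁻¹ = sm ^ 2 := by decide +kernel
theorem wm_wm : wm * cof wm = 1 := by decide +kernel
theorem wm_sm : wm * cof sm * wm⁻¹ = sm⁻¹ := by decide +kernel
theorem wm_fm : wm * cof fm * wm⁻¹ = fm := by decide +kernel

/-- `7 : 6` from `7 : 3` and an involution -/
theorem seven_six {A : Type*} [Group A] {s f x : A} (hos : orderOf s = 7) (hf3 : f ^ 3 = 1) (hf1 : f ≠ 1)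
    (hfs : f * s * f⁻¹ = s ^ 2) (hx : x * x = 1) (hs : x * s * x⁻¹ = s⁻¹) (hf : x * f * x⁻¹ = f) :
    (x * f * f) * s * (x * f * f)⁻¹ = s ^ 3 ∧ orderOf (x * f * f) = 6 := by
  have hs7 : s ^ 7 = 1 := by rw [← hos, pow_orderOf_eq_one]
  have hxi : x⁻¹ = x := inv_eq_of_mul_eq_one_left hx
  have hxf : x * f = f * x := by
    have h1 : x * f = (x * f * x⁻¹) * x := by group
    rw [h1, hf]
  have h2 : f * (f * s * f⁻¹) * f⁻¹ = s ^ 4 := by
    rw [hfs, ← conj_pow, hfs, ← pow_mul]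
  have hc1 : (x * f * f) * s * (x * f * f)⁻¹ = s ^ 3 := by
    calc (x * f * f) * s * (x * f * f)⁻¹ = x * (f * (f * s * f⁻¹) * f⁻¹) * x⁻¹ := by group
      _ = x * s ^ 4 * x⁻¹ := by rw [h2]
      _ = (s⁻¹) ^ 4 := by rw [← conj_pow, hs]
      _ = s ^ 3 * (s ^ 7)⁻¹ := by group
      _ = _ := by rw [hs7, inv_one, mul_one]
  have hfff : f * f * f = 1 := by rw [← hf3, pow_succ, pow_two]
  have hc2 : (x * f * f) * (x * f * f) = f := by
    have h5 : f * f * x = x * (f * f) := by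
      rw [mul_assoc, ← hxf, ← mul_assoc, ← hxf, mul_assoc]
    calc (x * f * f) * (x * f * f) = x * (f * f * x) * (f * f) := by group
      _ = (x * x) * (f * f * f) * f := by rw [h5]; group
      _ = f := by rw [hx, hfff, one_mul, one_mul]
  refine ⟨hc1, ?_⟩
  have hc6 : (x * f * f) ^ 6 = 1 := by
    rw [show 6 = 2 * 3 from rfl, pow_mul, pow_two, hc2, hf3]
  apply orderOf_eq_of_pow_and_pow_div_prime (by norm_num) hc6
  intro p hp hd
  have hp' : p = 2 ∨ p = 3 := by
    have : p ∣ 2 * 3 := hd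
    rcases (hp.dvd_mul.1 this) with h | h
    · exact Or.inl ((Nat.prime_dvd_prime_iff_eq hp Nat.prime_two).1 h)
    · exact Or.inr ((Nat.prime_dvd_prime_iff_eq hp Nat.prime_three).1 h)
  rcases hp' with rfl | rfl
  · -- the cube is not trivial
    intro h3
    change (x * f * f) ^ 3 = 1 at h3
    rw [pow_succ, pow_two, hc2] at h3
    have h4 : x = 1 := by
      calc x = (f * f * f) * x := by rw [hfff, one_mul]
        _ = f * (f * (f * x)) := by simp only [mul_assoc]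
        _ = f * (x * f * f) := by rw [← hxf, ← mul_assoc f x f, ← hxf]
        _ = 1 := h3
    rw [h4, one_mul, inv_one, mul_one] at hs
    have h5 : s ^ 2 = 1 := by
      rw [pow_two]
      nth_rewrite 1 [hs]
      exact inv_mul_cancel s
    have h6 := orderOf_dvd_of_pow_eq_one h5
    rw [hos] at h6
    omega
  · intro h3
    change (x * f * f) ^ 2 = 1 at h3
    rw [pow_two, hc2] at h3
    exact hf1 h3

variable {F : Type*} [Field F] [CharP F 2]

/-- base change -/
noncomputable def mp (F : Type*) [Field F] [CharP F 2] : S2 →* SpecialLinearGroup (Fin 3) F :=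
  SpecialLinearGroup.map (ZMod.castHom (dvd_refl 2) F)

theorem mp_inj : Function.Injective (mp F) := by
  have hinj : Function.Injective (ZMod.castHom (dvd_refl 2) F) := by
    have : Fact (Nat.Prime 2) := ⟨Nat.prime_two⟩
    exact (ZMod.castHom (dvd_refl 2) F).injective
  intro a b hab
  apply Subtype.ext
  ext i j
  apply hinj
  have h1 : ((mp F a : SpecialLinearGroup (Fin 3) F) : Matrix (Fin 3) (Fin 3) F) i j =
    ((mp F b : SpecialLinearGroup (Fin 3) F) : Matrix (Fin 3) (Fin 3) F) i j := by rw [hab]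
  exact h1

theorem cof_mp (P : S2) : cof (mp F P) = mp F (cof P) := by
  apply Subtype.ext
  change ((mp F P)⁻¹ : SpecialLinearGroup (Fin 3) F).1.transpose = _
  rw [← map_inv]
  rfl

omit [CharP F 2] in
theorem cof_mul (P Q : SpecialLinearGroup (Fin 3) F) : cof (P * Q) = cof P * cof Q := by
  apply Subtype.ext
  change ((P * Q)⁻¹ : SpecialLinearGroup (Fin 3) F).1.transpose = P⁻¹.1.transpose * Q⁻¹.1.transpose
  rw [_root_.mul_inv_rev, ← Matrix.transpose_mul]
  rfl

/-- **`7 : 6` in `G₂(2^m)`** -/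
theorem exists_seven_six [Finite F] : ∃ s c : ↥(chevG2.group F), orderOf s = 7 ∧ c * s * c⁻¹ = s ^ 3 ∧ orderOf c = 6 := by
  obtain ⟨e⟩ := Cfsg.Agent.H148.Oct.nonempty_equiv F
  let j : S2 →* ↥(AutO F) := ((slM F).codRestrict (AutO F) slM_mem).comp (mp F)
  have hj : Function.Injective j := by
    intro a b hab
    exact mp_inj (slM_inj (congrArg Subtype.val hab))
  let x : ↥(AutO F) := ⟨slM F (mp F wm) * swp F, (AutO F).mul_mem (slM_mem _) swp_mem⟩
  have hconj : ∀ P : S2, x * j P * x = j (wm * cof P * cof wm) := by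
    intro P
    apply Subtype.ext
    change slM F (mp F wm) * swp F * slM F (mp F P) * (slM F (mp F wm) * swp F) = slM F (mp F (wm * cof P * cof wm))
    calc slM F (mp F wm) * swp F * slM F (mp F P) * (slM F (mp F wm) * swp F) =
        slM F (mp F wm) * (swp F * slM F (mp F P * mp F wm) * swp F) := by
          rw [map_mul (slM F)]
          simp only [mul_assoc]
      _ = slM F (mp F wm * (cof (mp F P) * cof (mp F wm))) := by
          rw [swp_sl, cof_mul, map_mul (slM F), map_mul (slM F), map_mul (slM F)]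
      _ = _ := by
          rw [cof_mp, cof_mp, ← map_mul (mp F), ← map_mul (mp F), mul_assoc]
  have hx : x * x = 1 := by
    have h1 := hconj 1
    rw [map_one, mul_one] at h1
    rw [h1]
    have h2 : wm * cof (1 : S2) * cof wm = 1 := by decide +kernel
    rw [h2, map_one]
  have hxi : x⁻¹ = x := inv_eq_of_mul_eq_one_left hx
  have hs : x * j sm * x⁻¹ = j sm⁻¹ := by
    rw [hxi, hconj]
    congr 1
    decide +kernel
  have hf : x * j fm * x⁻¹ = j fm := by
    rw [hxi, hconj]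
    congr 1
    decide +kernel
  have : Fact (Nat.Prime 7) := ⟨by norm_num⟩
  have h1 : orderOf (j sm) = 7 := by
    rw [orderOf_injective j hj]
    exact orderOf_eq_prime sm_pow sm_ne
  obtain ⟨h2, h3⟩ := seven_six (s := j sm) (f := j fm) h1 (by rw [← map_pow, fm_pow, map_one])
    (by
      intro h
      have h4 : fm = 1 := hj (by rw [h, map_one])
      revert h4
      decide +kernel) (by rw [← map_inv, ← map_mul, ← map_mul, fm_sm, map_pow]) hx (by rw [hs, map_inv]) hf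
  refine ⟨e (j sm), e (x * j fm * j fm), ?_, ?_, ?_⟩
  · rw [MulEquiv.orderOf_eq, h1]
  · rw [← map_inv, ← map_mul, ← map_mul, h2, map_pow]
  · rw [MulEquiv.orderOf_eq, h3]

end two

/-- the arithmetic -/
theorem not_UB2 {q m t : ℕ} (hm : 1 ≤ m) (hq : q = 2 ^ m) (htp : t.Prime) (ht : t ∣ q ^ 2 + 1) :
    t ≠ 7 ∧ ¬ UB2 q (6 * t) := by
  have hev : 2 ∣ q := by rw [hq]; exact dvd_pow_self 2 (by omega)
  have h3q : ¬ 3 ∣ q := by
    rw [hq]
    intro h
    have := (Nat.prime_dvd_prime_iff_eq Nat.prime_three Nat.prime_two).1 (Nat.prime_three.dvd_of_dvd_pow h)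
    omega
  have hq1 : 1 ≤ q := by rw [hq]; exact Nat.one_le_two_pow
  have h7 : t ≠ 7 := by
    rintro rfl
    have h1 : q % 7 = 0 ∨ q % 7 = 1 ∨ q % 7 = 2 ∨ q % 7 = 3 ∨ q % 7 = 4 ∨ q % 7 = 5 ∨ q % 7 = 6 := by omega
    have h2 : (q ^ 2 + 1) % 7 = ((q % 7) ^ 2 + 1) % 7 := by
      rw [Nat.add_mod, Nat.pow_mod, Nat.add_mod ((q % 7) ^ 2)]
    have h3 : (q ^ 2 + 1) % 7 = 0 := Nat.mod_eq_zero_of_dvd ht
    rw [h2] at h3
    rcases h1 with h | h | h | h | h | h | h <;> rw [h] at h3 <;> omega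
  refine ⟨h7, ?_⟩
  have hev2 : 2 ∣ q ^ 2 := hev.trans (dvd_pow_self q (by norm_num))
  have hev3 : 2 ∣ q ^ 3 := hev.trans (dvd_pow_self q (by norm_num))
  have hev4 : 2 ∣ q ^ 4 := hev.trans (dvd_pow_self q (by norm_num))
  have hp2 : 1 ≤ q ^ 2 := Nat.one_le_pow _ _ hq1
  have hp3 : 1 ≤ q ^ 3 := Nat.one_le_pow _ _ hq1
  have hp4 : 1 ≤ q ^ 4 := Nat.one_le_pow _ _ hq1
  have ht2 : t ≠ 2 := by
    rintro rfl
    omega
  have h2dvd : ∀ n, 6 * t ∣ n → 2 ∣ n := fun n h => (Dvd.intro (3 * t) (by ring)).trans h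
  have hsq : t ∣ q ^ 2 - 1 → False := by
    intro h
    have h1 : t ∣ (q ^ 2 + 1) - (q ^ 2 - 1) := Nat.dvd_sub ht h
    have h2 : (q ^ 2 + 1) - (q ^ 2 - 1) = 2 := by omega
    rw [h2] at h1
    exact ht2 ((Nat.prime_dvd_prime_iff_eq htp Nat.prime_two).1 h1)
  have hfac : q ^ 2 - 1 = (q + 1) * (q - 1) := by
    have := Nat.sq_sub_sq q 1
    rwa [one_pow] at this
  have hodd : ∀ n, t ∣ 4 * n → t ∣ n := by
    intro n h
    rcases htp.dvd_mul.1 h with h1 | h1
    · have h2 : t ∣ 2 ^ 2 := h1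
      exact absurd ((Nat.prime_dvd_prime_iff_eq htp Nat.prime_two).1 (htp.dvd_of_dvd_pow h2)) ht2
    · exact h1
  rintro (h | h | h | h | h | h | h | h)
  · have := h2dvd _ h; omega
  · have := h2dvd _ h; omega
  · have := h2dvd _ h; omega
  · have h1 : 3 ∣ q ^ 2 + 1 := by
      have h2 : 2 * (3 * t) ∣ 2 * (q ^ 2 + 1) := by
        have e : 2 * (3 * t) = 6 * t := by ring
        rw [e]; exact h
      exact (Dvd.intro t rfl).trans (Nat.dvd_of_mul_dvd_mul_left (by norm_num) h2)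
    have h2 : (q ^ 2 + 1) % 3 = ((q % 3) ^ 2 + 1) % 3 := by
      rw [Nat.add_mod, Nat.pow_mod, Nat.add_mod ((q % 3) ^ 2)]
    have h3 : (q ^ 2 + 1) % 3 = 0 := Nat.mod_eq_zero_of_dvd h1
    rw [h2] at h3
    have h4 : q % 3 = 1 ∨ q % 3 = 2 := by omega
    rcases h4 with h | h <;> rw [h] at h3 <;> omega
  · apply hsq
    have h1 : t ∣ 2 * (q ^ 2 - 1) := (Dvd.intro_left 6 rfl).trans h
    rcases htp.dvd_mul.1 h1 with h2 | h2
    · exact absurd ((Nat.prime_dvd_prime_iff_eq htp Nat.prime_two).1 h2) ht2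
    · exact h2
  · apply hsq
    rw [hfac]
    exact Dvd.dvd.mul_right (hodd _ ((Dvd.intro_left 6 rfl).trans h)) _
  · apply hsq
    rw [hfac]
    exact Dvd.dvd.mul_left (hodd _ ((Dvd.intro_left 6 rfl).trans h)) _
  · have h1 : 3 ∣ 8 := (Dvd.intro (2 * t) (by ring)).trans h
    omega

/-- **no cover of `G₂(2^m)`** -/
theorem nc_g2_two {F : Type*} [Field F] [Fintype F] {m : ℕ} (hm : 2 ≤ m) (hF : Fintype.card F = 2 ^ m)
    {H : Type*} [Group H] [Finite H] (V : Subgroup H) [V.Normal] {t : ℕ} (ht : t ∣ Fintype.card F ^ 2 + 1)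
    (hV : Cov t H V) (e : H ⧸ V ≃* ↥(Cfsg.Lie.chevG2.group F)) (hub : ∀ x : H, UB2 (Fintype.card F) (orderOf x)) :
    False := by
  obtain ⟨h7, hno⟩ := not_UB2 (by omega) hF hV.prime ht
  have hc : CharP F 2 := charP_of_card Nat.prime_two hF
  obtain ⟨s, c, hs, hcs, hc6⟩ := exists_seven_six (F := F)
  have hcard : 3 ≤ Fintype.card F := by
    rw [hF]
    calc 3 ≤ 2 ^ 2 := by norm_num
      _ ≤ 2 ^ m := Nat.pow_le_pow_right (by norm_num) hm
  have hsim := simple_of_g2 hcard V e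
  obtain ⟨g, hg⟩ := QuotientGroup.mk_surjective (e.symm s)
  have hs' : orderOf (e.symm s) = 7 := by rw [MulEquiv.orderOf_eq, hs]
  have hgV : g ∉ V := by
    intro h
    rw [(QuotientGroup.eq_one_iff g).2 h] at hg
    rw [← hg, orderOf_one] at hs'
    omega
  obtain ⟨y, hy⟩ := exists_six V hV h7 (e.symm s) (e.symm c) hs'
    (by rw [← map_inv, ← map_mul, ← map_mul, hcs, map_pow]) (by rw [MulEquiv.orderOf_eq, hc6])
    ⟨g, hg, faithful V hV hsim hgV⟩
  have := hub y
  rw [hy] at this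
  exact hno this

end Cfsg.Agent.H876.Six
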