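import Mathlib

/-!
# Numbers for `³D₄(v)`, BLOCK 6 (helper876)
-/

set_option autoImplicit false

namespace Cfsg.Agent.H876.Six.Td

/-- size lemma, `T = (v³ - 1)(v + 1)` -/
theorem size1 {A B v : ℕ} (hv : 2 ≤ v) (hB : B = A + 1) (hA : (v ^ 3 - 1) * (v + 1) ∣ A)
    (hTB : v ^ 4 - v ^ 2 + 1 ∣ B) : v ^ 2 * (v ^ 4 - v ^ 2 + 1) ≤ B := by
  obtain ⟨i, hi⟩ := hA
  obtain ⟨j, hj⟩ := hTB
  have h1 : 1 ≤ v ^ 3 := Nat.one_le_pow _ _ (by omega)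
  have h2 : v ^ 2 ≤ v ^ 4 := Nat.pow_le_pow_right (by omega) (by norm_num)
  have hj0 : 0 < j := Nat.pos_of_ne_zero (by rintro rfl; simp at hj; omega)
  zify [h1, h2] at *
  set V : ℤ := (v : ℤ) with hV
  set T1 : ℤ := (V ^ 3 - 1) * (V + 1) with hT1
  set TB : ℤ := V ^ 4 - V ^ 2 + 1 with hTB
  have hTBpos : 0 < TB := by nlinarith [sq_nonneg (V ^ 2 - 1)]
  have hT1pos : 0 < T1 := by
    have : (8 : ℤ) ≤ V ^ 3 := by nlinarith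
    nlinarith
  have hX : (i * V - j * (V - 1)) * T1 = j * (V ^ 2 + V - 1) - V := by
    have e1 : i * T1 = j * TB - 1 := by linarith
    have e2 : V * TB - (V - 1) * T1 = V ^ 2 + V - 1 := by rw [hTB, hT1]; ring
    have : (i * V - j * (V - 1)) * T1 = V * (i * T1) - j * (V - 1) * T1 := by ring
    rw [this, e1]
    linear_combination (j : ℤ) * e2
  have hpos : 0 < (j : ℤ) * (V ^ 2 + V - 1) - V := by nlinarith
  have hX1 : 0 < (i * V - j * (V - 1) : ℤ) := by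
    by_contra hcon
    push Not at hcon
    nlinarith
  have hle : T1 ≤ j * (V ^ 2 + V - 1) - V := by nlinarith
  have h3 : (V ^ 2 + V - 1) * V ^ 2 ≤ T1 := by
    rw [hT1]
    nlinarith
  have h4 : (V ^ 2 + V - 1) * (V ^ 2 * TB) ≤ (V ^ 2 + V - 1) * B := by
    calc (V ^ 2 + V - 1) * (V ^ 2 * TB) = ((V ^ 2 + V - 1) * V ^ 2) * TB := by ring
      _ ≤ T1 * TB := mul_le_mul_of_nonneg_right h3 hTBpos.le
      _ ≤ (j * (V ^ 2 + V - 1) - V) * TB := mul_le_mul_of_nonneg_right hle hTBpos.le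
      _ = (V ^ 2 + V - 1) * B - V * TB := by rw [hj]; ring
      _ ≤ (V ^ 2 + V - 1) * B := by nlinarith
  exact le_of_mul_le_mul_left h4 (by nlinarith)

/-- size lemma, `T = (v³ + 1)(v - 1)` -/
theorem size2 {A B v : ℕ} (hv : 2 ≤ v) (hB : B = A + 1) (hA : (v ^ 3 + 1) * (v - 1) ∣ A)
    (hTB : v ^ 4 - v ^ 2 + 1 ∣ B) : v ^ 2 * (v ^ 4 - v ^ 2 + 1) ≤ B := by
  obtain ⟨i, hi⟩ := hA
  obtain ⟨j, hj⟩ := hTB
  have h1 : 1 ≤ v := by omega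
  have h2 : v ^ 2 ≤ v ^ 4 := Nat.pow_le_pow_right (by omega) (by norm_num)
  have hj0 : 0 < j := Nat.pos_of_ne_zero (by rintro rfl; simp at hj; omega)
  zify [h1, h2] at *
  set V : ℤ := (v : ℤ) with hV
  set T1 : ℤ := (V ^ 3 + 1) * (V - 1) with hT1
  set TB : ℤ := V ^ 4 - V ^ 2 + 1 with hTB
  have hTBpos : 0 < TB := by nlinarith [sq_nonneg (V ^ 2 - 1)]
  have hT1pos : 0 < T1 := by
    have : (8 : ℤ) ≤ V ^ 3 := by nlinarith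
    nlinarith
  have hX : (j * (V + 1) - i * V) * T1 = j * (V ^ 2 - V - 1) + V := by
    have e1 : i * T1 = j * TB - 1 := by linarith
    have e2 : V * TB - (V + 1) * T1 = -(V ^ 2 - V - 1) := by rw [hTB, hT1]; ring
    have : (j * (V + 1) - i * V) * T1 = j * (V + 1) * T1 - V * (i * T1) := by ring
    rw [this, e1]
    linear_combination (-j : ℤ) * e2
  have hq : 0 < V ^ 2 - V - 1 := by nlinarith
  have hpos : 0 < (j : ℤ) * (V ^ 2 - V - 1) + V := by nlinarith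
  have hX1 : 0 < (j * (V + 1) - i * V : ℤ) := by
    by_contra hcon
    push Not at hcon
    nlinarith
  have hle : T1 ≤ j * (V ^ 2 - V - 1) + V := by nlinarith
  have h3 : (V ^ 2 - V - 1) * V ^ 2 ≤ T1 - V := by
    rw [hT1]
    nlinarith
  have h4 : (V ^ 2 - V - 1) * (V ^ 2 * TB) ≤ (V ^ 2 - V - 1) * B := by
    calc (V ^ 2 - V - 1) * (V ^ 2 * TB) = ((V ^ 2 - V - 1) * V ^ 2) * TB := by ring
      _ ≤ (T1 - V) * TB := mul_le_mul_of_nonneg_right h3 hTBpos.le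
      _ ≤ (j * (V ^ 2 - V - 1)) * TB := mul_le_mul_of_nonneg_right (by linarith) hTBpos.le
      _ = (V ^ 2 - V - 1) * B := by rw [hj]; ring
  exact le_of_mul_le_mul_left h4 hq

/-- the case `ap = q² + q + 1` -/
theorem num2 {q v : ℕ} (hv : 2 ≤ v) (h1 : 2 * (v ^ 2 * (v ^ 4 - v ^ 2 + 1)) ≤ q ^ 3 + 1)
    (h2 : q ^ 2 + q + 1 ≤ v ^ 4 + v ^ 3 + v ^ 2) : False := by
  have h3 : 2 * q + 1 < 2 * v ^ 2 + v + 1 := by
    apply lt_of_pow_lt_pow_left₀ 2 (by positivity)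
    calc (2 * q + 1) ^ 2 < 4 * (q ^ 2 + q + 1) := by nlinarith
      _ ≤ 4 * (v ^ 4 + v ^ 3 + v ^ 2) := Nat.mul_le_mul_left _ h2
      _ ≤ (2 * v ^ 2 + v + 1) ^ 2 := by nlinarith
  have h4 : v ^ 2 ≤ v ^ 4 := Nat.pow_le_pow_right (by omega) (by norm_num)
  obtain ⟨w, rfl⟩ := Nat.exists_eq_add_of_le hv
  have e0 : (2 + w) ^ 4 - (2 + w) ^ 2 + 1 = w ^ 4 + 8 * w ^ 3 + 23 * w ^ 2 + 28 * w + 13 := by
    have : (2 + w) ^ 4 = (w ^ 4 + 8 * w ^ 3 + 23 * w ^ 2 + 28 * w + 12) + (2 + w) ^ 2 := by ring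
    omega
  rw [e0] at h1
  have h5 : 2 * q ≤ 2 * w ^ 2 + 9 * w + 9 := by
    have : 2 * (2 + w) ^ 2 + (2 + w) + 1 = 2 * w ^ 2 + 9 * w + 11 := by ring
    omega
  have h6 : (2 * q) ^ 3 ≤ (2 * w ^ 2 + 9 * w + 9) ^ 3 := Nat.pow_le_pow_left h5 3
  have h7 : 16 * ((2 + w) ^ 2 * (w ^ 4 + 8 * w ^ 3 + 23 * w ^ 2 + 28 * w + 13)) =
      (2 * w ^ 2 + 9 * w + 9) ^ 3 + 8 + (8 * w ^ 6 + 84 * w ^ 5 + 350 * w ^ 4 + 731 * w ^ 3 + 799 * w ^ 2 + 437 * w + 95) := by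
    ring
  have h8 : (2 * q) ^ 3 = 8 * q ^ 3 := by ring
  have h9 : 0 ≤ 8 * w ^ 6 + 84 * w ^ 5 + 350 * w ^ 4 + 731 * w ^ 3 + 799 * w ^ 2 + 437 * w := Nat.zero_le _
  omega

/-- the case `am = q² - q + 1` -/
theorem num3 {q v : ℕ} (hq : 5 ≤ q) (hv : 2 ≤ v) (h1 : 2 * (v ^ 2 * (v ^ 4 - v ^ 2 + 1)) ≤ q ^ 3 + 1)
    (h2 : q ^ 2 - q + 1 ≤ v ^ 4 - v ^ 2 + 1) : False := by
  have h4 : v ^ 2 ≤ v ^ 4 := Nat.pow_le_pow_right (by omega) (by norm_num)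
  have h5 : q ≤ q ^ 2 := by nlinarith
  zify [h4, h5] at *
  set Q : ℤ := (q : ℤ) with hQ
  set V : ℤ := (v : ℤ) with hV
  have h6 : Q ^ 3 + 1 = (Q + 1) * (Q ^ 2 - Q + 1) := by ring
  have h7 : 0 < V ^ 4 - V ^ 2 + 1 := by nlinarith [sq_nonneg (V ^ 2 - 1)]
  have h8 : 2 * V ^ 2 ≤ Q + 1 := by
    have h9 : (2 * V ^ 2) * (V ^ 4 - V ^ 2 + 1) ≤ (Q + 1) * (V ^ 4 - V ^ 2 + 1) := by
      calc (2 * V ^ 2) * (V ^ 4 - V ^ 2 + 1) = 2 * (V ^ 2 * (V ^ 4 - V ^ 2 + 1)) := by ring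
        _ ≤ Q ^ 3 + 1 := h1
        _ = (Q + 1) * (Q ^ 2 - Q + 1) := h6
        _ ≤ (Q + 1) * (V ^ 4 - V ^ 2 + 1) := mul_le_mul_of_nonneg_left h2 (by linarith)
    exact le_of_mul_le_mul_right h9 h7
  have h9 : (2 * V ^ 2) ^ 2 ≤ (Q + 1) ^ 2 := pow_le_pow_left₀ (by positivity) h8 2
  nlinarith

/-- the case `ap = p` -/
theorem num4 {q v a : ℕ} (hq : 5 ≤ q) (hv : 2 ≤ v) (h1 : 2 * (v ^ 4 - v ^ 2 + 1) ≤ q ^ 3 + 1)
    (h2 : q ^ 2 + q + 1 ≤ 3 * a) (h3 : a ≤ v ^ 2) : False := by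
  have h4 : v ^ 2 ≤ v ^ 4 := Nat.pow_le_pow_right (by omega) (by norm_num)
  zify [h4] at *
  set s : ℤ := 3 * a with hs
  have h5 : (a : ℤ) ^ 2 - a + 1 ≤ v ^ 4 - v ^ 2 + 1 := by
    have e : (v : ℤ) ^ 4 = (v ^ 2) ^ 2 := by ring
    rw [e]
    have h6 : (1 : ℤ) ≤ a := by nlinarith
    nlinarith
  have h6 : (q : ℤ) ^ 4 + 2 * q ^ 3 - q + 7 ≤ s ^ 2 - 3 * s + 9 := by
    have h7 : (q : ℤ) ^ 4 + 2 * q ^ 3 - q + 7 = (q ^ 2 + q + 1) ^ 2 - 3 * (q ^ 2 + q + 1) + 9 := by ring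
    rw [h7]
    nlinarith
  have h7 : 2 * (s ^ 2 - 3 * s + 9) ≤ 9 * ((q : ℤ) ^ 3 + 1) := by
    have h8 : 2 * (s ^ 2 - 3 * s + 9) = 9 * (2 * ((a : ℤ) ^ 2 - a + 1)) := by rw [hs]; ring
    rw [h8]
    linarith
  obtain ⟨k, hk⟩ : ∃ k : ℤ, (q : ℤ) = 5 + k := ⟨q - 5, by ring⟩
  have hk0 : 0 ≤ k := by linarith
  rw [hk] at h6 h7
  have h8 : 0 ≤ 2 * k ^ 4 + 35 * k ^ 3 + 225 * k ^ 2 + 623 * k := by positivity
  nlinarith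

theorem ne_25 {v : ℕ} (hv : 2 ≤ v) :
    v ^ 4 - v ^ 2 + 1 ≠ 25 ∧ (v ^ 3 - 1) * (v + 1) ≠ 25 ∧ (v ^ 3 + 1) * (v - 1) ≠ 25 := by
  rcases Nat.lt_or_ge v 3 with h | h
  · have : v = 2 := by omega
    subst this
    decide
  · have h3 : 3 ^ 3 ≤ v ^ 3 := Nat.pow_le_pow_left h 3
    have h2 : 3 ^ 2 ≤ v ^ 2 := Nat.pow_le_pow_left h 2
    refine ⟨?_, ?_, ?_⟩
    · have : 9 * v ^ 2 ≤ v ^ 4 := by nlinarith
      omega
    · have : 26 * 4 ≤ (v ^ 3 - 1) * (v + 1) := Nat.mul_le_mul (by omega) (by omega)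
      omega
    · have : 28 * 2 ≤ (v ^ 3 + 1) * (v - 1) := Nat.mul_le_mul (by omega) (by omega)
      omega

end Cfsg.Agent.H876.Six.Td
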