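import Cfsg.Agent.H876.Six.TdOrd
import Cfsg.Agent.H876.Six.TdNum
import Cfsg.Agent.H60.SixBase
import Cfsg.Agent.H436.Names
import Cfsg.Agent.H390.B6.Congr

/-!
# BLOCK 6, `q = 5 ^ m`: `³D₄(v)` (helper876, task 2624 of helper376)

`td4` : `E5 q S → False` for `S = ³D₄(v)`, `5 ∤ v`.
-/

set_option autoImplicit false

namespace Cfsg.Agent.H876.Six.Td

open Cfsg Cfsg.Lie Cfsg.Agent.H376.Six Cfsg.Agent.H60.Six5
open Cfsg.Agent.OrdDiv Cfsg.Agent.H436
open Cfsg.Agent.H378 Cfsg.Agent.H378.ExcAdj Cfsg.Agent.H378.TwAdj Cfsg.Agent.H378.TwRows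

universe u

theorem exists_mul_of_pr {G : Type*} [Group G] {r s : ℕ} (hr : r.Prime) (hs : s.Prime) (hne : r ≠ s) (h : Pr G r s) :
    ∃ x : G, orderOf x = r * s := by
  obtain ⟨x, y, hx, hy, hc⟩ := h
  refine ⟨x * y, ?_⟩
  rw [hc.orderOf_mul_eq_mul_orderOf_of_coprime (by rw [hx, hy]; exact (Nat.coprime_primes hr hs).2 hne), hx, hy]

set_option maxHeartbeats 1000000 in
theorem td4_main {K : Type u} [Field K] [Fintype K] {q v : ℕ} (hv : IsPrimePow v) (hK : Fintype.card K = v ^ 3)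
    (h5 : ¬ 5 ∣ v) (h : E5 q ↥(twistedD4 K v)) : False := by
  obtain ⟨p, e, hp', he, hve⟩ := id hv
  have hp := hp'.nat_prime
  have hpv : p ∣ v := hve ▸ dvd_pow_self p he.ne'
  have hp5 : p ≠ 5 := fun h1 => h5 (h1 ▸ hpv)
  have hC : CharP K p := by
    obtain ⟨r, hr⟩ := CharP.exists K
    obtain ⟨n, hpr, hn⟩ := FiniteField.card K r
    have h1 : r ∣ p ^ (e * 3) := by rw [pow_mul, hve, ← hK, hn]; exact dvd_pow_self r n.pos.ne'
    have h2 := (Nat.prime_dvd_prime_iff_eq hpr hp).1 (hpr.dvd_of_dvd_pow h1)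
    rwa [h2] at hr
  have hv2 := hv.two_le
  have P := pow5 h.pow
  have hq5 := P.le
  have hq2 : 2 ≤ q := by omega
  have hA := P.A
  have hB := P.B
  -- the torus numbers
  set TB := v ^ 4 - v ^ 2 + 1 with hTB
  set T1 := (v ^ 3 - 1) * (v + 1) with hT1
  set T2 := (v ^ 3 + 1) * (v - 1) with hT2
  obtain ⟨xB, hxB⟩ := Cfsg.Agent.H437.Iso.d4_order12 hv hK
  obtain ⟨x1, hx1⟩ := Cfsg.Agent.H437.Iso.d4_orderA hv hK
  obtain ⟨x2, hx2⟩ := Cfsg.Agent.H437.Iso.d4_orderB hv hK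
  have uB : Ub q TB := h.ub' ⟨xB, hxB⟩
  have u1 : Ub q T1 := h.ub' ⟨x1, hx1⟩
  have u2 : Ub q T2 := h.ub' ⟨x2, hx2⟩
  have hv3 : 2 ^ 3 ≤ v ^ 3 := Nat.pow_le_pow_left hv2 3
  have hv22 : v ≤ v ^ 2 := by nlinarith
  have d1 : v ^ 3 - 1 ∣ T1 := Dvd.intro _ rfl
  have d2 : v ^ 3 + 1 ∣ T2 := Dvd.intro _ rfl
  have e1 : v ^ 3 - 1 = (v ^ 2 + v + 1) * (v - 1) := cube_sub v
  have e2 : v ^ 3 + 1 = (v ^ 2 - v + 1) * (v + 1) := cube_add hv2
  have d3 : v ^ 2 + v + 1 ∣ T1 := (Dvd.intro _ e1.symm).trans d1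
  have d4 : v ^ 2 - v + 1 ∣ T2 := (Dvd.intro _ e2.symm).trans d2
  have n25 := ne_25 hv2
  rcases h.five with ⟨⟨xa, hxa⟩, ⟨xb, hxb⟩, -⟩ | ⟨x, hx⟩
  swap
  · -- an element of order 25
    obtain ⟨j, m, hn, hpm, hc⟩ := ord_td4 hp he hve.symm hK x
    rw [hx] at hn
    have hj : j = 0 := by
      by_contra hj
      have h1 : p ∣ 5 ^ 2 := by
        have : (5 : ℕ) ^ 2 = p ^ j * m := hn
        rw [this]
        exact (dvd_pow_self p hj).mul_right m
      exact hp5 ((Nat.prime_dvd_prime_iff_eq hp Nat.prime_five).1 (hp.dvd_of_dvd_pow h1))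
    rw [hj, pow_zero, one_mul] at hn
    rw [← hn] at hc
    have f1 : 25 ∣ T1 → False := fun h1 => n25.2.1 (eq_25 P h1 u1)
    have f2 : 25 ∣ T2 → False := fun h1 => n25.2.2 (eq_25 P h1 u2)
    rcases hc with ⟨-, hc | hc | hc⟩ | hc | ⟨-, hc | hc⟩ | hc | hc
    · exact n25.1 (eq_25 P hc uB)
    · exact f1 hc
    · exact f2 hc
    · norm_num at hc
    · exact f1 (hc.trans d1)
    · exact f2 (hc.trans d2)
    · exact f1 (hc.trans d3)
    · exact f2 (hc.trans d4)
  · have hapge := ap_ge P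
    have hamge := am_ge P
    -- `B` is odd
    have hBodd : ¬ 2 ∣ (q ^ 3 + 1) / 2 := by
      have h1 : q ^ 3 % 4 = 1 := by rw [Nat.pow_mod, P.mod]
      omega
    -- no element of order `2 r`, `r ∣ am`
    have hno2 : ∀ r : ℕ, r.Prime → r ∣ am q → ∀ n : ℕ, r ∣ n → 2 ∣ n → Ub q n → False := by
      intro r hr hra n hrn h2n hu
      exact hBodd (h2n.trans (dvd_B P hr hra hrn hu))
    -- the characteristic does not divide `am`
    have hpr2 : 2 ∣ Nat.card ↥(twistedD4 K v) := by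
      have h1 : 2 ∣ T1 ∨ 2 ∣ v := by
        by_cases h2 : 2 ∣ v
        · exact Or.inr h2
        · left
          exact Dvd.dvd.mul_left (by omega) _
      rcases h1 with h1 | h1
      · have h2 : orderOf x1 = T1 := hx1
        exact h1.trans (by rw [← h2]; exact orderOf_dvd_natCard x1)
      · rw [Cfsg.Agent.S1067.result hv hK]
        have h2 : 2 ∣ v ^ 12 := h1.trans (dvd_pow_self v (by norm_num))
        exact ((h2.mul_right _).mul_right _).mul_right _
    have hpam : ¬ p ∣ am q := by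
      intro h1
      have h2 := (am_ne hq2 hp h1).1
      rcases pr_td4 hv hK hp hpv Nat.prime_two hpr2 with h3 | h3 | h3
      · exact h2 h3.symm
      · obtain ⟨y, hy⟩ := exists_mul_of_pr Nat.prime_two hp h2.symm h3
        exact hno2 p hp h1 (2 * p) (Dvd.intro_left 2 rfl) (Dvd.intro p rfl) (h.ub' ⟨y, hy⟩)
      · have h4 := ExcNear.mod_of_od Nat.prime_two h3 (by norm_num)
        norm_num at h4
    -- `am ∣ TB`
    have hamB : am q ∣ TB := by
      obtain ⟨j, m, hn, hpm, hc⟩ := ord_td4 hp he hve.symm hK xb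
      rw [hxb] at hn
      have hj : j = 0 := by
        by_contra hj
        exact hpam (hn ▸ (dvd_pow_self p hj).mul_right m)
      rw [hj, pow_zero, one_mul] at hn
      rw [← hn] at hc
      obtain ⟨r, hr, hra⟩ := exists_am P
      have hrp : r ≠ p := fun h1 => hpam (h1 ▸ hra)
      have hrc : r ∣ Nat.card ↥(twistedD4 K v) := (hra.trans (hxb ▸ dvd_rfl)).trans (orderOf_dvd_natCard xb)
      have key : ∀ T : ℕ, Ub q T → am q ∣ T → (¬ 2 ∣ v → 2 ∣ T) → r ∣ v ^ 6 - 1 → False := by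
        intro T hT h1 h2 h3
        by_cases h2v : 2 ∣ v
        · have hp2 : p = 2 := by
            have h4 : 2 ∣ p ^ e := hve ▸ h2v
            exact ((Nat.prime_dvd_prime_iff_eq Nat.prime_two hp).1 (Nat.prime_two.dvd_of_dvd_pow h4)).symm
          rcases pr_td4 hv hK hp hpv hr hrc with h3' | h3' | h3'
          · exact hrp h3'
          · obtain ⟨y, hy⟩ := exists_mul_of_pr hr hp hrp h3'
            rw [hp2] at hy
            exact hno2 r hr hra (r * 2) (Dvd.intro 2 rfl) (Dvd.intro_left r rfl) (h.ub' ⟨y, hy⟩)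
          · have h6 : od v r ∣ 6 := by
              rw [od, ← CycTab.dvd_iff]
              have h7 : 1 ≤ v ^ 6 := Nat.one_le_pow _ _ (by omega)
              have h8 : ((v ^ 6 - 1 : ℕ) : ℤ) = (v : ℤ) ^ 6 - 1 := by push_cast [h7]; ring
              rw [← h8]
              exact Int.natCast_dvd_natCast.2 h3
            rw [h3'] at h6
            norm_num at h6
        · exact hno2 r hr hra T (hra.trans h1) (h2 h2v) hT
      have k1 : v ^ 3 - 1 ∣ v ^ 6 - 1 := by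
        have := Nat.sub_dvd_pow_sub_pow (v ^ 3) 1 2
        rwa [one_pow, ← pow_mul] at this
      have k2 : v ^ 3 + 1 ∣ v ^ 6 - 1 := by
        refine ⟨v ^ 3 - 1, ?_⟩
        have h1 := Nat.sq_sub_sq (v ^ 3) 1
        rw [one_pow, ← pow_mul] at h1
        exact h1
      have k3 : v + 1 ∣ v ^ 6 - 1 := (Dvd.intro_left _ e2.symm).trans k2
      have k4 : v - 1 ∣ v ^ 6 - 1 := (Dvd.intro_left _ e1.symm).trans k1
      have f1 : am q ∣ T1 → False := by
        intro h1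
        refine key T1 u1 h1 (fun h2 => Dvd.dvd.mul_left (by omega) _) ?_
        rcases hr.dvd_mul.1 (hra.trans h1) with h3 | h3
        · exact h3.trans k1
        · exact h3.trans k3
      have f2 : am q ∣ T2 → False := by
        intro h1
        refine key T2 u2 h1 (fun h2 => Dvd.dvd.mul_left (by omega) _) ?_
        rcases hr.dvd_mul.1 (hra.trans h1) with h3 | h3
        · exact h3.trans k2
        · exact h3.trans k4
      rcases hc with ⟨-, hc | hc | hc⟩ | hc | ⟨-, hc | hc⟩ | hc | hc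
      · exact hc
      · exact (f1 hc).elim
      · exact (f2 hc).elim
      · omega
      · exact (f1 (hc.trans d1)).elim
      · exact (f2 (hc.trans d2)).elim
      · exact (f1 (hc.trans d3)).elim
      · exact (f2 (hc.trans d4)).elim
    have hTBB := dvd_B' P hamB uB
    have hTBle := Nat.le_of_dvd (by omega) hTBB
    have hv4 : v ^ 2 ≤ v ^ 4 := Nat.pow_le_pow_right (by omega) (by norm_num)
    have hTB0 : 0 < TB := by omega
    -- the end
    have fin : (T1 ∣ (q ^ 3 - 1) / 2 ∨ T2 ∣ (q ^ 3 - 1) / 2) → ap q ≤ v ^ 4 + v ^ 3 + v ^ 2 → False := by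
      intro h1 h2
      have h3 : v ^ 2 * TB ≤ (q ^ 3 + 1) / 2 := by
        rcases h1 with h1 | h1
        · exact size1 hv2 hB h1 hTBB
        · exact size2 hv2 hB h1 hTBB
      have h4 : 2 * (v ^ 2 * TB) ≤ q ^ 3 + 1 := by omega
      rcases ap_am_cases P with ⟨h6, -⟩ | ⟨-, -, h6⟩
      · rw [h6] at h2
        exact num2 hv2 h4 h2
      · refine num3 hq5 hv2 h4 ?_
        rw [← h6]
        exact Nat.le_of_dvd hTB0 hamB
    obtain ⟨j, m, hn, hpm, hc⟩ := ord_td4 hp he hve.symm hK xa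
    rw [hxa] at hn
    have hpv' : p ≤ v := Nat.le_of_dvd (by omega) hpv
    have hp7 : j ≠ 0 → 7 ≤ p ∧ j ≤ 2 := by
      intro hj
      have h1 : p ∣ ap q := hn ▸ (dvd_pow_self p hj).mul_right m
      obtain ⟨h2, h3, -⟩ := ap_ne hq2 hp h1
      have h4 : p ≠ 4 := by rintro rfl; norm_num at hp
      have h6 : p ≠ 6 := by rintro rfl; norm_num at hp
      have h7 : 7 ≤ p := by have := hp.two_le; omega
      exact ⟨h7, unip_le hp h7 xa (hxa.trans hn)⟩
    have hpj2 : p ^ j ≤ v ^ 2 := by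
      rcases Nat.eq_zero_or_pos j with h1 | h1
      · rw [h1, pow_zero]; nlinarith
      · have h2 := (hp7 h1.ne').2
        calc p ^ j ≤ p ^ 2 := Nat.pow_le_pow_right hp.pos h2
          _ ≤ v ^ 2 := Nat.pow_le_pow_left hpv' 2
    have hm0 : 0 < m := Nat.pos_of_ne_zero (by rintro rfl; rw [mul_zero] at hn; omega)
    have case1 : m = 1 → False := by
      intro h1
      rw [h1, mul_one] at hn
      exact num4 hq5 hv2 (a := ap q) (by omega) (three_ap hq2) (hn ▸ hpj2)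
    have hdiv : m ≠ 1 → (m ∣ T1 ∨ m ∣ T2) → (T1 ∣ (q ^ 3 - 1) / 2 ∨ T2 ∣ (q ^ 3 - 1) / 2) := by
      intro h1 h2
      obtain ⟨r, hr, hrm⟩ := Nat.exists_prime_and_dvd h1
      have hra : r ∣ ap q := hn ▸ hrm.mul_left _
      rcases h2 with h2 | h2
      · exact Or.inl (dvd_A P hr hra (hrm.trans h2) u1)
      · exact Or.inr (dvd_A P hr hra (hrm.trans h2) u2)
    by_cases hm1 : m = 1
    · exact case1 hm1
    rcases hc with ⟨hj, hc | hc | hc⟩ | hc | ⟨hj, hc | hc⟩ | hc | hc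
    · rw [hj, pow_zero, one_mul] at hn
      exact not_both P (hn ▸ hc) hamB uB
    · refine fin (hdiv hm1 (Or.inl hc)) ?_
      rw [hj, pow_zero, one_mul] at hn
      rw [hn]
      refine (Nat.le_of_dvd (Nat.mul_pos (by omega) (by omega)) hc).trans ?_
      calc (v ^ 3 - 1) * (v + 1) ≤ v ^ 3 * (v + 1) := Nat.mul_le_mul_right _ (Nat.sub_le _ _)
        _ = v ^ 4 + v ^ 3 := by ring
        _ ≤ v ^ 4 + v ^ 3 + v ^ 2 := by omega
    · refine fin (hdiv hm1 (Or.inr hc)) ?_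
      rw [hj, pow_zero, one_mul] at hn
      rw [hn]
      refine (Nat.le_of_dvd (Nat.mul_pos (by omega) (by omega)) hc).trans ?_
      calc (v ^ 3 + 1) * (v - 1) ≤ (v ^ 3 + 1) * v := Nat.mul_le_mul_left _ (Nat.sub_le _ _)
        _ = v ^ 4 + v := by ring
        _ ≤ _ := by omega
    · exact hm1 hc
    · refine fin (hdiv hm1 (Or.inl (hc.trans d1))) ?_
      rw [hn]
      have h1 : p ^ j ≤ v := by
        calc p ^ j ≤ p ^ 1 := Nat.pow_le_pow_right hp.pos hj
          _ ≤ v := by rw [pow_one]; exact hpv'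
      have h2 : m ≤ v ^ 3 := (Nat.le_of_dvd (by omega) hc).trans (Nat.sub_le _ _)
      calc p ^ j * m ≤ v * v ^ 3 := Nat.mul_le_mul h1 h2
        _ = v ^ 4 := by ring
        _ ≤ _ := by omega
    · refine fin (hdiv hm1 (Or.inr (hc.trans d2))) ?_
      rw [hn]
      have h1 : p ^ j ≤ v := by
        calc p ^ j ≤ p ^ 1 := Nat.pow_le_pow_right hp.pos hj
          _ ≤ v := by rw [pow_one]; exact hpv'
      have h2 : m ≤ v ^ 3 + 1 := Nat.le_of_dvd (by omega) hc
      calc p ^ j * m ≤ v * (v ^ 3 + 1) := Nat.mul_le_mul h1 h2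
        _ = v ^ 4 + v := by ring
        _ ≤ _ := by omega
    · refine fin (hdiv hm1 (Or.inl (hc.trans d3))) ?_
      rw [hn]
      have h2 : m ≤ v ^ 2 + v + 1 := Nat.le_of_dvd (by omega) hc
      calc p ^ j * m ≤ v ^ 2 * (v ^ 2 + v + 1) := Nat.mul_le_mul hpj2 h2
        _ = v ^ 4 + v ^ 3 + v ^ 2 := by ring
    · refine fin (hdiv hm1 (Or.inr (hc.trans d4))) ?_
      rw [hn]
      have h2 : m ≤ v ^ 2 - v + 1 := Nat.le_of_dvd (by omega) hc
      calc p ^ j * m ≤ v ^ 2 * (v ^ 2 + v + 1) := Nat.mul_le_mul hpj2 (by omega)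
        _ = v ^ 4 + v ^ 3 + v ^ 2 := by ring

/-- **`³D₄(v)`, `5 ∤ v`** -/
theorem td4 {q w : ℕ} {S : Type u} [Group S] (hS : IsNamed (.td4 w) S) (h5 : ¬ 5 ∣ w) (h : E5 q S) : False := by
  obtain ⟨F, _, _, hF, ⟨e⟩⟩ := hS.real
  exact td4_main hS.cond hF h5 (h.congr e)

end Cfsg.Agent.H876.Six.Td
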