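import Cfsg.Agent.H876.Six.NcG2

/-!
# No cover of `G₂(3)` with the element orders of BLOCK 6, `q = 4` (helper876)

`3² : 4` in `SL₃(3)`: an element of order `4 · 17`.
-/

set_option autoImplicit false

namespace Cfsg.Agent.H876.Six

open Cfsg.Lie Matrix
open Cfsg.Agent.H376.Six Cfsg.Agent.H161.Oct Cfsg.Agent.H371.Frob

/-- `SL₃(3)` -/
abbrev S3 : Type := Matrix.SpecialLinearGroup (Fin 3) (ZMod 3)

/-- the unipotent radical of the stabilizer of a plane -/
def vv (a b : ZMod 3) : S3 := ⟨!![1, 0, a; 0, 1, b; 0, 0, 1], by rw [det_fin_three]; simp⟩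

/-- an element of order four of the Levi factor -/
def cc : S3 := ⟨!![0, -1, 0; 1, 0, 0; 0, 0, 1], by decide⟩

theorem vv_mul (a b c d : ZMod 3) : vv a b * vv c d = vv (a + c) (b + d) := by
  apply Subtype.ext
  rw [Matrix.SpecialLinearGroup.coe_mul]
  change !![1, 0, a; 0, 1, b; 0, 0, 1] * !![1, 0, c; 0, 1, d; 0, 0, 1] = !![1, 0, a + c; 0, 1, b + d; 0, 0, 1]
  ext i j
  fin_cases i <;> fin_cases j <;> simp [Matrix.mul_apply, Fin.sum_univ_succ, add_comm]

theorem vv_zero : vv 0 0 = 1 := by decide +kernel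

theorem vv_inv (a b : ZMod 3) : (vv a b)⁻¹ = vv (-a) (-b) := by
  rw [inv_eq_iff_mul_eq_one, vv_mul, add_neg_cancel, add_neg_cancel, vv_zero]

theorem cc_vv : ∀ a b : ZMod 3, cc * vv a b * cc⁻¹ = vv (-b) a := by decide +kernel

theorem order_cc : orderOf cc = 4 := by
  apply orderOf_eq_of_pow_and_pow_div_prime (by norm_num)
  · decide +kernel
  · intro p hp hd
    have h1 : p = 2 := by
      have : p ∣ 2 ^ 2 := hd
      exact (Nat.prime_dvd_prime_iff_eq hp Nat.prime_two).1 (hp.dvd_of_dvd_pow this)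
    subst h1
    decide +kernel

theorem cc_fix : ∀ i : Fin 4, 0 < (i : ℕ) → ∀ a b : ZMod 3, cc ^ (i : ℕ) * vv a b = vv a b * cc ^ (i : ℕ) → a = 0 ∧ b = 0 := by
  decide +kernel

/-- the subgroup of order nine -/
def VV : Subgroup S3 where
  carrier := {g | ∃ a b, g = vv a b}
  one_mem' := ⟨0, 0, vv_zero.symm⟩
  mul_mem' := by
    rintro x y ⟨a, b, rfl⟩ ⟨c, d, rfl⟩
    exact ⟨a + c, b + d, vv_mul _ _ _ _⟩
  inv_mem' := by
    rintro x ⟨a, b, rfl⟩
    exact ⟨-a, -b, vv_inv _ _⟩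

theorem VV_pow : ∀ g ∈ VV, g ^ 3 = 1 := by
  rintro g ⟨a, b, rfl⟩
  have : ∀ a b : ZMod 3, vv a b ^ 3 = 1 := by decide +kernel
  exact this a b

theorem card_VV : ∃ n, Nat.card VV = 3 ^ n := by
  have : Fact (Nat.Prime 3) := ⟨Nat.prime_three⟩
  refine IsPGroup.iff_card.1 fun g => ⟨1, ?_⟩
  apply Subtype.ext
  exact VV_pow g.1 g.2

/-- **an element of order `4 t`** -/
theorem exists_four {H : Type*} [Group H] [Finite H] (V : Subgroup H) [V.Normal] {t : ℕ} (hV : Cov t H V) (h3 : t ≠ 3)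
    (σ : S3 →* H ⧸ V) (hσ : Function.Injective σ) (hf : ∃ g : H, (g : H ⧸ V) = σ (vv 0 1) ∧ ∃ v ∈ V, g * v ≠ v * g) :
    ∃ y : H, orderOf y = 4 * t := by
  have hVc : IsMulCommutative V := ⟨⟨fun a b => Subtype.ext (hV.comm a a.2 b b.2)⟩⟩
  have ho : orderOf (σ cc) = 4 := by rw [orderOf_injective σ hσ, order_cc]
  rw [← ho]
  refine exists_orderOf V hVc hV.prime hV.pow (VV.map σ) (c := σ cc) ?_ ?_ ?_ ?_
  · rintro _ ⟨x, ⟨a, b, rfl⟩, rfl⟩
    refine ⟨vv (-b) a, ⟨_, _, rfl⟩, ?_⟩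
    rw [← map_inv, ← map_mul, ← map_mul, cc_vv]
  · rintro i hi hi4 _ ⟨x, ⟨a, b, rfl⟩, rfl⟩ hc
    rw [ho] at hi4
    rw [← map_pow, ← map_mul, ← map_mul] at hc
    obtain ⟨rfl, rfl⟩ := cc_fix ⟨i, hi4⟩ hi a b (hσ hc)
    rw [vv_zero, map_one]
  · rw [Subgroup.card_map_of_injective hσ]
    obtain ⟨n, hn⟩ := card_VV
    rw [hn]
    exact Nat.Coprime.pow_left n ((Nat.coprime_primes Nat.prime_three hV.prime).2 (Ne.symm h3))
  · obtain ⟨g, hg, hgv⟩ := hf
    exact ⟨g, ⟨vv 0 1, ⟨0, 1, rfl⟩, hg.symm⟩, hgv⟩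

/-- **`SL₃(3)` in `G₂(3)`** -/
theorem exists_s3 {F : Type*} [Field F] [Finite F] [CharP F 3] :
    ∃ σ : S3 →* ↥(chevG2.group F), Function.Injective σ := by
  obtain ⟨e⟩ := Cfsg.Agent.H148.Oct.nonempty_equiv F
  have hinj : Function.Injective (ZMod.castHom (dvd_refl 3) F) := by
    have : Fact (Nat.Prime 3) := ⟨Nat.prime_three⟩
    exact (ZMod.castHom (dvd_refl 3) F).injective
  refine ⟨(e.toMonoidHom.comp ((slM F).codRestrict (AutO F) slM_mem)).comp
    (Matrix.SpecialLinearGroup.map (ZMod.castHom (dvd_refl 3) F)), ?_⟩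
  refine (e.injective.comp ?_).comp ?_
  · intro a b hab
    exact slM_inj (congrArg Subtype.val hab)
  · intro a b hab
    apply Subtype.ext
    ext i j
    apply hinj
    have h1 : ((Matrix.SpecialLinearGroup.map (ZMod.castHom (dvd_refl 3) F) a :
        Matrix.SpecialLinearGroup (Fin 3) F) : Matrix (Fin 3) (Fin 3) F) i j =
      ((Matrix.SpecialLinearGroup.map (ZMod.castHom (dvd_refl 3) F) b :
        Matrix.SpecialLinearGroup (Fin 3) F) : Matrix (Fin 3) (Fin 3) F) i j := by rw [hab]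
    exact h1

/-- the characteristic -/
theorem charP_of_card {F : Type*} [Field F] [Fintype F] {p m : ℕ} (hp : p.Prime) (hF : Fintype.card F = p ^ m) :
    CharP F p := by
  obtain ⟨r, hr⟩ := CharP.exists F
  obtain ⟨n, hpp, hn⟩ := FiniteField.card F r
  rw [hF] at hn
  have h2 : r ∣ p ^ m := by rw [hn]; exact dvd_pow_self r n.ne_zero
  have h3 : r = p := (Nat.prime_dvd_prime_iff_eq hpp hp).1 (hpp.dvd_of_dvd_pow h2)
  rw [← h3]; exact hr

/-- simplicity of the quotient -/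
theorem simple_of_g2 {F : Type*} [Field F] [Fintype F] (hcard : 3 ≤ Fintype.card F) {H : Type*} [Group H]
    (V : Subgroup H) [V.Normal] (e : H ⧸ V ≃* ↥(chevG2.group F)) : IsSimpleGroup (H ⧸ V) := by
  have h1 := (S1055.result (Cfsg.Agent.H148.Oct.exists_of_card hcard)).1
  have : Nontrivial (H ⧸ V) := e.toEquiv.nontrivial
  exact IsSimpleGroup.isSimpleGroup_of_surjective e.symm.toMonoidHom e.symm.surjective

/-- **no cover of `G₂(3)`** -/
theorem nc_g2_three {F : Type*} [Field F] [Fintype F] (hF : Fintype.card F = 3) {H : Type*} [Group H] [Finite H]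
    (V : Subgroup H) [V.Normal] (hV : Cov 17 H V) (e : H ⧸ V ≃* ↥(Cfsg.Lie.chevG2.group F))
    (hub : ∀ x : H, UB2 4 (orderOf x)) : False := by
  have hc : CharP F 3 := charP_of_card (m := 1) Nat.prime_three (by rw [hF, pow_one])
  obtain ⟨σ, hσ⟩ := exists_s3 (F := F)
  have hsim := simple_of_g2 (by omega) V e
  let σ' : S3 →* H ⧸ V := e.symm.toMonoidHom.comp σ
  have hσ' : Function.Injective σ' := e.symm.injective.comp hσ
  obtain ⟨g, hg⟩ := QuotientGroup.mk_surjective (σ' (vv 0 1))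
  have hgV : g ∉ V := by
    intro h
    rw [(QuotientGroup.eq_one_iff g).2 h] at hg
    have h1 : vv 0 1 = 1 := hσ' (by rw [← hg, map_one])
    revert h1
    decide +kernel
  obtain ⟨y, hy⟩ := exists_four V hV (by norm_num) σ' hσ' ⟨g, hg, faithful V hV hsim hgV⟩
  have := hub y
  rw [hy] at this
  simp only [UB2] at this
  revert this
  decide

end Cfsg.Agent.H876.Six
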