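import Cfsg.Agent.H371.FrobCover
import Cfsg.Agent.H376.Six.Cover

/-!
# `SL₃(5)` in a quotient `H / V`, `V` abelian of prime exponent `t ≠ 2, 5`: an element of order `20 t` (helper876)

`z = 1 + e₀₂`, `h = diag (2, 4, 2)`, `E = {1 + a e₀₂ + b e₁₂}`. If no element has order `20 t` then the norm of `h` vanishes
on `C_V(z)`, so `E` is trivial on `C_V(z)` (Frobenius group `5 : 4`), hence on `C_V(e)` for all `e ∈ E`, hence on `V`.
-/

set_option autoImplicit false

namespace Cfsg.Agent.H876.Six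

open Finset Matrix
open Cfsg.Agent.H371.Frob Cfsg.Agent.H376.Six

/-- `SL₃(5)` -/
abbrev S5 : Type := Matrix.SpecialLinearGroup (Fin 3) (ZMod 5)

/-- the unipotent radical of the stabilizer of a plane -/
def uu (a b : ZMod 5) : S5 := ⟨!![1, 0, a; 0, 1, b; 0, 0, 1], by rw [det_fin_three]; simp⟩

/-- the Levi factor -/
def gg (k : ZMod 5) : S5 := ⟨!![k, -1, 0; 1, 0, 0; 0, 0, 1], by rw [det_fin_three]; simp⟩

/-- the torus element -/
def hh : S5 := ⟨!![2, 0, 0; 0, 4, 0; 0, 0, 2], by decide⟩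

theorem uu_mul (a b c d : ZMod 5) : uu a b * uu c d = uu (a + c) (b + d) := by
  apply Subtype.ext
  rw [Matrix.SpecialLinearGroup.coe_mul]
  change !![1, 0, a; 0, 1, b; 0, 0, 1] * !![1, 0, c; 0, 1, d; 0, 0, 1] = !![1, 0, a + c; 0, 1, b + d; 0, 0, 1]
  ext i j
  fin_cases i <;> fin_cases j <;> simp [Matrix.mul_apply, Fin.sum_univ_succ, add_comm]

theorem gg_uu (k s : ZMod 5) : gg k * uu s 0 = uu (s * k) s * gg k := by
  apply Subtype.ext
  rw [Matrix.SpecialLinearGroup.coe_mul, Matrix.SpecialLinearGroup.coe_mul]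
  change !![k, -1, 0; 1, 0, 0; 0, 0, 1] * !![1, 0, s; 0, 1, 0; 0, 0, 1] =
    !![1, 0, s * k; 0, 1, s; 0, 0, 1] * !![k, -1, 0; 1, 0, 0; 0, 0, 1]
  ext i j
  fin_cases i <;> fin_cases j <;> simp [Matrix.mul_apply, Fin.sum_univ_succ, mul_comm]

theorem gg_uu' (k s : ZMod 5) : gg k * uu 0 s = uu (-s) 0 * gg k := by
  apply Subtype.ext
  rw [Matrix.SpecialLinearGroup.coe_mul, Matrix.SpecialLinearGroup.coe_mul]
  change !![k, -1, 0; 1, 0, 0; 0, 0, 1] * !![1, 0, 0; 0, 1, s; 0, 0, 1] =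
    !![1, 0, -s; 0, 1, 0; 0, 0, 1] * !![k, -1, 0; 1, 0, 0; 0, 0, 1]
  ext i j
  fin_cases i <;> fin_cases j <;> simp [Matrix.mul_apply, Fin.sum_univ_succ]

theorem hh_z : hh * uu 1 0 = uu 1 0 * hh := by decide +kernel

theorem hh_uu : ∀ s : ZMod 5, hh * uu 0 s * hh⁻¹ = uu 0 (2 * s) := by decide +kernel

theorem order_c : orderOf (hh * uu 1 0) = 20 := by
  apply orderOf_eq_of_pow_and_pow_div_prime (by norm_num)
  · decide +kernel
  · intro p hp hd
    have h1 : p = 2 ∨ p = 5 := by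
      have : p ∣ 2 ^ 2 * 5 := hd
      rcases (hp.dvd_mul.1 this) with h | h
      · exact Or.inl ((Nat.prime_dvd_prime_iff_eq hp Nat.prime_two).1 (hp.dvd_of_dvd_pow h))
      · exact Or.inr ((Nat.prime_dvd_prime_iff_eq hp Nat.prime_five).1 h)
    rcases h1 with rfl | rfl
    · decide +kernel
    · decide +kernel


theorem uu_inv (a b : ZMod 5) : (uu a b)⁻¹ = uu (-a) (-b) := by
  rw [inv_eq_iff_mul_eq_one, uu_mul, add_neg_cancel, add_neg_cancel]
  decide +kernel

theorem uu_comm (a b c d : ZMod 5) : uu a b * uu c d = uu c d * uu a b := by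
  rw [uu_mul, uu_mul, add_comm a, add_comm b]

theorem uu_zero : uu 0 0 = 1 := by decide +kernel

theorem uu_inj (s : ZMod 5) (h : uu 0 s = 1) : s = 0 := by
  have h1 : ((uu 0 s : S5) : Matrix (Fin 3) (Fin 3) (ZMod 5)) 1 2 = (1 : Matrix (Fin 3) (Fin 3) (ZMod 5)) 1 2 := by rw [h]; rfl
  exact h1

section act

variable {V : Type*} [CommGroup V] (τ : S5 →* MulAut V)

/-- the centralizer of `z` -/
abbrev CC : Subgroup S5 := Subgroup.centralizer ({uu 1 0} : Set S5)

/-- the fixed points of `z` -/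
def WW : Subgroup V where
  carrier := {v | τ (uu 1 0) v = v}
  one_mem' := map_one _
  mul_mem' := by
    intro a b ha hb
    change τ (uu 1 0) (a * b) = a * b
    rw [map_mul]
    exact congrArg₂ (· * ·) ha hb
  inv_mem' := by
    intro a ha
    change τ (uu 1 0) (a⁻¹) = a⁻¹
    rw [map_inv]
    exact congrArg (·⁻¹) ha

theorem mem_CC {g : S5} : g ∈ CC ↔ uu 1 0 * g = g * uu 1 0 := by
  rw [Subgroup.mem_centralizer_singleton_iff]
  exact ⟨Eq.symm, Eq.symm⟩

theorem WW_stable (g : CC) (w : WW τ) : τ g (w : V) ∈ WW τ := by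
  change τ (uu 1 0) (τ (g : S5) (w : V)) = τ (g : S5) (w : V)
  rw [← MulAut.mul_apply, ← map_mul, mem_CC.1 g.2, map_mul, MulAut.mul_apply]
  exact congrArg (τ (g : S5)) w.2

/-- the action of the centralizer of `z` on the fixed points of `z` -/
def rho : CC →* MulAut (WW τ) where
  toFun g :=
    { toFun := fun w => ⟨τ g (w : V), WW_stable τ g w⟩
      invFun := fun w => ⟨τ ((g⁻¹ : CC) : S5) (w : V), WW_stable τ g⁻¹ w⟩
      left_inv := by
        intro w
        apply Subtype.ext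
        change τ ((g⁻¹ : CC) : S5) (τ (g : S5) (w : V)) = w
        rw [← MulAut.mul_apply, ← map_mul, ← Subgroup.coe_mul, inv_mul_cancel, Subgroup.coe_one, map_one, MulAut.one_apply]
      right_inv := by
        intro w
        apply Subtype.ext
        change τ (g : S5) (τ ((g⁻¹ : CC) : S5) (w : V)) = w
        rw [← MulAut.mul_apply, ← map_mul, ← Subgroup.coe_mul, mul_inv_cancel, Subgroup.coe_one, map_one, MulAut.one_apply]
      map_mul' := by
        intro a b
        apply Subtype.ext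
        exact map_mul (τ (g : S5)) (a : V) (b : V) }
  map_one' := by
    apply MulEquiv.ext
    intro w
    apply Subtype.ext
    change τ ((1 : CC) : S5) (w : V) = w
    rw [Subgroup.coe_one, map_one, MulAut.one_apply]
  map_mul' := by
    intro a b
    apply MulEquiv.ext
    intro w
    apply Subtype.ext
    change τ ((a * b : CC) : S5) (w : V) = τ (a : S5) (τ (b : S5) (w : V))
    rw [Subgroup.coe_mul, map_mul, MulAut.mul_apply]

theorem rho_coe (g : CC) (w : WW τ) : ((rho τ g w : WW τ) : V) = τ (g : S5) (w : V) := rfl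

/-- the group of order five -/
def UU : Subgroup CC where
  carrier := {g | ∃ s, (g : S5) = uu 0 s}
  one_mem' := ⟨0, by rw [uu_zero]; rfl⟩
  mul_mem' := by
    rintro a b ⟨s, hs⟩ ⟨s', hs'⟩
    exact ⟨s + s', by rw [Subgroup.coe_mul, hs, hs', uu_mul, add_zero]⟩
  inv_mem' := by
    rintro a ⟨s, hs⟩
    exact ⟨-s, by rw [Subgroup.coe_inv, hs, uu_inv, neg_zero]⟩

theorem uu_mem_CC (a b : ZMod 5) : uu a b ∈ CC := mem_CC.2 (uu_comm _ _ _ _)

theorem card_UU : Nat.card UU = 5 := by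
  have h1 : Function.Bijective (fun s : ZMod 5 => (⟨⟨uu 0 s, uu_mem_CC 0 s⟩, s, rfl⟩ : UU)) := by
    constructor
    · intro a b h
      have h2 : uu 0 a = uu 0 b := congrArg (fun x : UU => ((x : CC) : S5)) h
      have h3 : ((uu 0 a : S5) : Matrix (Fin 3) (Fin 3) (ZMod 5)) 1 2 = ((uu 0 b : S5) : Matrix (Fin 3) (Fin 3) (ZMod 5)) 1 2 := by
        rw [h2]
      exact h3
    · rintro ⟨⟨g, hg⟩, s, hs⟩
      refine ⟨s, ?_⟩
      apply Subtype.ext
      apply Subtype.ext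
      exact hs.symm
  rw [← Nat.card_congr (Equiv.ofBijective _ h1), Nat.card_zmod]

/-- `h` as an element of the centralizer -/
def hC : CC := ⟨hh, mem_CC.2 hh_z.symm⟩

theorem hh_fix : ∀ i : Fin 4, 0 < (i : ℕ) → ∀ s : ZMod 5, hh ^ (i : ℕ) * uu 0 s = uu 0 s * hh ^ (i : ℕ) → s = 0 := by
  decide +kernel

/-- **`E` is trivial on `C_V(z)`** -/
theorem triv_W {t : ℕ} (he : ∀ v : V, v ^ t = 1) (h5 : (5 : ℕ).Coprime t)
    (hN : ∀ w, τ (uu 1 0) w = w → ∏ i ∈ range 4, τ (hh ^ i) w = 1) :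
    ∀ w, τ (uu 1 0) w = w → ∀ s, τ (uu 0 s) w = w := by
  intro w hw s
  have hn1 : ∀ a ∈ UU, (hC)⁻¹ * a * hC ∈ UU := by
    rintro a ⟨r, hr⟩
    refine ⟨3 * r, ?_⟩
    have h1 := hh_uu (3 * r)
    have h2 : (2 : ZMod 5) * (3 * r) = r := by
      rw [← mul_assoc]
      have : (2 : ZMod 5) * 3 = 1 := by decide
      rw [this, one_mul]
    rw [h2] at h1
    change (hh)⁻¹ * (a : S5) * hh = uu 0 (3 * r)
    rw [hr, ← h1]
    group
  have hn : ∀ a ∈ UU, ∀ i : ℕ, (hC ^ i)⁻¹ * a * hC ^ i ∈ UU := by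
    intro a ha i
    induction i with
    | zero => simpa using ha
    | succ i ih =>
      have h1 := hn1 _ ih
      convert h1 using 1
      rw [pow_succ]; group
  have h1 := trivial_of_norm (rho τ) UU (c := hC) (m := 4) (e := t) (by norm_num) hn (by
    rintro i hi hi4 a ⟨r, hr⟩ hc
    have h2 : hh ^ i * uu 0 r = uu 0 r * hh ^ i := by
      have := congrArg (fun x : CC => (x : S5)) hc
      rw [← hr]
      exact this
    have h3 := hh_fix ⟨i, hi4⟩ hi r h2
    apply Subtype.ext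
    rw [hr, h3, uu_zero]; rfl) (fun v => Subtype.ext (he v)) (by rw [card_UU]; exact h5) (by
    intro v
    apply Subtype.ext
    have h2 := hN v v.2
    rw [Subgroup.coe_one, ← h2]
    rw [Subgroup.val_finsetProd]
    rfl) ⟨uu 0 s, uu_mem_CC 0 s⟩ ⟨s, rfl⟩ ⟨w, hw⟩
  exact congrArg Subtype.val h1

/-- the norm of `z` -/
noncomputable def NN (v : V) : V := ∏ s : ZMod 5, τ (uu s 0) v

theorem NN_fix (v : V) (a : ZMod 5) : τ (uu a 0) (NN τ v) = NN τ v := by
  rw [NN, map_prod]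
  have h1 : ∀ s : ZMod 5, τ (uu a 0) (τ (uu s 0) v) = τ (uu (a + s) 0) v := by
    intro s
    rw [← MulAut.mul_apply, ← map_mul, uu_mul, add_zero]
  simp only [h1]
  exact Equiv.prod_comp (Equiv.addLeft a) (fun s => τ (uu s 0) v)

/-- **`E` is trivial on `V`** -/
theorem triv_V {t : ℕ} (he : ∀ v : V, v ^ t = 1) (h5 : (5 : ℕ).Coprime t)
    (hN : ∀ w, τ (uu 1 0) w = w → ∏ i ∈ range 4, τ (hh ^ i) w = 1) (v : V) (a b : ZMod 5) : τ (uu a b) v = v := by
  have hW := triv_W τ he h5 hN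
  have hsp : ∀ a b, uu a b = uu 0 b * uu a 0 := by
    intro a b
    rw [uu_mul, add_zero, zero_add]
  -- the norm of `z` is fixed by everything
  have h1 : ∀ v a b, τ (uu a b) (NN τ v) = NN τ v := by
    intro v a b
    rw [hsp, map_mul, MulAut.mul_apply, NN_fix]
    exact hW _ (NN_fix τ v 1) b
  -- the norm of `z'`
  have h2 : ∀ (v : V) (k a b : ZMod 5), τ (uu a b) (∏ s : ZMod 5, τ (uu (s * k) s) v) = ∏ s : ZMod 5, τ (uu (s * k) s) v := by
    intro v k a b
    have h3 : ∏ s : ZMod 5, τ (uu (s * k) s) v = τ (gg k) (NN τ (τ (gg k)⁻¹ v)) := by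
      rw [NN, map_prod]
      refine Finset.prod_congr rfl fun s _ => ?_
      rw [← MulAut.mul_apply, ← MulAut.mul_apply, ← map_mul, ← map_mul, gg_uu, mul_inv_cancel_right]
    rw [h3]
    obtain ⟨c, d, hcd⟩ : ∃ c d, uu a b * gg k = gg k * uu c d := by
      refine ⟨b, -(a - b * k), ?_⟩
      have h4 : uu b (-(a - b * k)) = uu 0 (-(a - b * k)) * uu b 0 := hsp _ _
      rw [h4, ← mul_assoc, gg_uu', mul_assoc, gg_uu, ← mul_assoc, uu_mul, neg_neg, sub_add_cancel, zero_add]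
    rw [← MulAut.mul_apply, ← map_mul, hcd, map_mul, MulAut.mul_apply, h1]
  -- the sum
  have h3 : ∏ k : ZMod 5, ∏ s : ZMod 5, τ (uu (s * k) s) v = v ^ 5 * (NN τ v)⁻¹ * ∏ s : ZMod 5, ∏ k : ZMod 5, τ (uu k s) v := by
    rw [Finset.prod_comm]
    rw [← Finset.mul_prod_erase univ (fun s : ZMod 5 => ∏ k : ZMod 5, τ (uu (s * k) s) v) (Finset.mem_univ 0),
      ← Finset.mul_prod_erase univ (fun s : ZMod 5 => ∏ k : ZMod 5, τ (uu k s) v) (Finset.mem_univ 0)]
    have h4 : ∏ k : ZMod 5, τ (uu (0 * k) 0) v = v ^ 5 := by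
      simp only [zero_mul, uu_zero, map_one, MulAut.one_apply, Finset.prod_const, Finset.card_univ, ZMod.card]
    have h5 : ∏ s ∈ univ.erase (0 : ZMod 5), ∏ k : ZMod 5, τ (uu (s * k) s) v =
        ∏ s ∈ univ.erase (0 : ZMod 5), ∏ k : ZMod 5, τ (uu k s) v := by
      refine Finset.prod_congr rfl fun s hs => ?_
      have hs0 : s ≠ 0 := (Finset.mem_erase.1 hs).1
      have : Fact (Nat.Prime 5) := ⟨Nat.prime_five⟩
      exact Equiv.prod_comp (Equiv.mulLeft₀ s hs0) (fun k => τ (uu k s) v)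
    rw [h4, h5]
    change _ = v ^ 5 * (NN τ v)⁻¹ * (NN τ v * _)
    rw [mul_assoc, inv_mul_cancel_left]
  have h4 : v ^ 5 = (∏ k : ZMod 5, ∏ s : ZMod 5, τ (uu (s * k) s) v) * NN τ v *
      (∏ s : ZMod 5, ∏ k : ZMod 5, τ (uu k s) v)⁻¹ := by
    rw [h3, eq_mul_inv_iff_mul_eq, mul_right_comm, inv_mul_cancel_right]
  have h5' : τ (uu a b) (∏ s : ZMod 5, ∏ k : ZMod 5, τ (uu k s) v) = ∏ s : ZMod 5, ∏ k : ZMod 5, τ (uu k s) v := by
    rw [map_prod]
    have h6 : ∀ s : ZMod 5, τ (uu a b) (∏ k : ZMod 5, τ (uu k s) v) = ∏ k : ZMod 5, τ (uu k (b + s)) v := by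
      intro s
      rw [map_prod]
      have h7 : ∀ k : ZMod 5, τ (uu a b) (τ (uu k s) v) = τ (uu (a + k) (b + s)) v := by
        intro k
        rw [← MulAut.mul_apply, ← map_mul, uu_mul]
      simp only [h7]
      exact Equiv.prod_comp (Equiv.addLeft a) (fun k => τ (uu k (b + s)) v)
    simp only [h6]
    exact Equiv.prod_comp (Equiv.addLeft b) (fun s => ∏ k : ZMod 5, τ (uu k s) v)
  have h6 : τ (uu a b) (v ^ 5) = v ^ 5 := by
    rw [h4, map_mul, map_mul, map_inv, h1, h5', map_prod]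
    simp only [h2]
  have h7 : (τ (uu a b) v * v⁻¹) ^ 5 = 1 := by
    rw [mul_pow, inv_pow, ← map_pow, h6, mul_inv_cancel]
  have h8 := pow_gcd_eq_one.2 ⟨h7, he _⟩
  rw [h5, pow_one] at h8
  exact mul_inv_eq_one.1 h8

end act

section group

variable {H : Type*} [Group H]

/-- **An element of order `20 t`** -/
theorem exists_twenty (V : Subgroup H) [V.Normal] {t : ℕ} (hV : Cov t H V) (h2 : t ≠ 2) (h5 : t ≠ 5) (σ : S5 →* H ⧸ V)
    (hσ : Function.Injective σ) (hf : ∃ g : H, (g : H ⧸ V) = σ (uu 0 1) ∧ ∃ v ∈ V, g * v ≠ v * g) :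
    ∃ y : H, orderOf y = 20 * t := by
  by_contra hno
  push Not at hno
  have hVc : IsMulCommutative V := ⟨⟨fun a b => Subtype.ext (hV.comm a a.2 b b.2)⟩⟩
  let _ : CommGroup V := { (inferInstance : Group V) with mul_comm := hVc.is_comm.comm }
  let τ : S5 →* MulAut V := (quotAct V hVc).comp σ
  have h5' : (5 : ℕ).Coprime t := (Nat.coprime_primes Nat.prime_five hV.prime).2 (Ne.symm h5)
  have h2' : (2 : ℕ).Coprime t := (Nat.coprime_primes Nat.prime_two hV.prime).2 (Ne.symm h2)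
  have h20 : (20 : ℕ).Coprime t := by
    have h1 : (20 : ℕ) = 2 * 2 * 5 := rfl
    rw [h1]
    exact (h2'.mul_left h2').mul_left h5'
  obtain ⟨y, hy⟩ := QuotientGroup.mk_surjective (σ (hh * uu 1 0))
  have hy20 : orderOf (y : H ⧸ V) = 20 := by
    rw [hy, orderOf_injective σ hσ, order_c]
  -- elements over `hz` have order twenty
  have hord : ∀ x : H, (x : H ⧸ V) = σ (hh * uu 1 0) → x ^ 20 = 1 := by
    intro x hx
    by_contra hx20
    apply hno x
    have h1 : x ^ 20 ∈ V := by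
      rw [← QuotientGroup.eq_one_iff, QuotientGroup.mk_pow, hx, ← hy, ← hy20, pow_orderOf_eq_one]
    have h3 : orderOf (x ^ 20) = t := by
      have := Fact.mk hV.prime
      exact orderOf_eq_prime (hV.pow _ h1) hx20
    have h4 : 20 ∣ orderOf x := by
      rw [← hy20, hy, ← hx]
      exact orderOf_map_dvd (QuotientGroup.mk' V) x
    rw [orderOf_pow_of_dvd (by norm_num) h4] at h3
    rw [← h3, Nat.mul_div_cancel' h4]
  have hN : ∀ w : V, τ (uu 1 0) w = w → ∏ i ∈ range 4, τ (hh ^ i) w = 1 := by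
    intro w hw
    set w' := ∏ i ∈ range 4, τ (hh ^ i) w with hw'
    have h1 : τ (uu 1 0) w' = w' := by
      rw [hw', map_prod]
      refine Finset.prod_congr rfl fun i _ => ?_
      have hc : uu 1 0 * hh ^ i = hh ^ i * uu 1 0 := (Commute.pow_left hh_z i).symm
      rw [← MulAut.mul_apply, ← map_mul, hc, map_mul, MulAut.mul_apply, hw]
    have h3 : τ hh w' = w' := by
      rw [hw', map_prod]
      have h4 : ∀ i ∈ range 4, τ hh (τ (hh ^ i) w) = τ (hh ^ (i + 1)) w := by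
        intro i _
        rw [← MulAut.mul_apply, ← map_mul, ← pow_succ']
      rw [Finset.prod_congr rfl h4, Finset.prod_range_succ, Finset.prod_range_succ' _ 3]
      have h6 : hh ^ (3 + 1) = 1 := by decide +kernel
      rw [h6, pow_zero]
    have h4 : τ (hh * uu 1 0) w' = w' := by rw [map_mul, MulAut.mul_apply, h1, h3]
    have h5 : y * (w' : H) * y⁻¹ = w' := by
      have h6 := congrArg Subtype.val h4
      change ((quotAct V hVc (σ (hh * uu 1 0)) w' : V) : H) = w' at h6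
      rw [← hy, quotAct_mk] at h6
      exact h6
    have h6 : Commute y (w' : H) := mul_inv_eq_iff_eq_mul.1 h5
    have h7 : (y * (w' : H)) ^ 20 = 1 := by
      apply hord
      rw [QuotientGroup.mk_mul, (QuotientGroup.eq_one_iff _).2 w'.2, mul_one, hy]
    rw [h6.mul_pow, hord y hy, one_mul] at h7
    have h8 : (w' : H) ^ Nat.gcd 20 t = 1 := pow_gcd_eq_one.2 ⟨h7, hV.pow _ w'.2⟩
    rw [h20, pow_one] at h8
    exact Subtype.ext h8
  obtain ⟨g, hg, v, hv, hne⟩ := hf
  have h1 := triv_V τ (fun v => Subtype.ext (hV.pow v v.2)) h5' hN ⟨v, hv⟩ 0 1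
  have h3 := congrArg Subtype.val h1
  change ((quotAct V hVc (σ (uu 0 1)) ⟨v, hv⟩ : V) : H) = v at h3
  rw [← hg, quotAct_mk] at h3
  exact hne (mul_inv_eq_iff_eq_mul.1 h3)

end group

end Cfsg.Agent.H876.Six
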